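import Groth.Prelude.Def_CoactBr
import Groth.Agent.GrpAct.Basic

/-!
# Affine actions come from coactions

An action of `G ≅ Spec H` on an affine `X` is, after inverting the group variable, `Spec` of a coaction.
-/

set_option autoImplicit false
set_option backward.isDefEq.respectTransparency false

universe u

open CategoryTheory MonoidalCategory CartesianMonoidalCategory MonObj GrpObj AlgebraicGeometry Opposite
open TensorProduct (tmul_add add_tmul)
open scoped TensorProduct
open CoactBr

namespace Groth.Agent.AffQuot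

attribute [local instance] CoactBr.braidedAlgSpecOf

variable {k : Type u} [CommRing k]

lemma exists_pt {B K : Type u} [CommRing B] [CommRing K] [Algebra k B] [Algebra k K] (f : sp k K ⟶ sp k B) :
    ∃ φ : B →ₐ[k] K, pt φ = f :=
  ⟨((algSpec.fullyFaithful (R := CommRingCat.of k)).preimage
      (X := op (CommAlgCat.of k K)) (Y := op (CommAlgCat.of k B)) f).unop.hom,
    (algSpec.fullyFaithful (R := CommRingCat.of k)).map_preimage
      (X := op (CommAlgCat.of k K)) (Y := op (CommAlgCat.of k B)) f⟩

/-- A product of spectra is the spectrum of the tensor product. -/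
lemma exists_prod_iso (B H : Type u) [CommRing B] [CommRing H] [Algebra k B] [Algebra k H] :
    ∃ m : sp k B ⊗ sp k H ≅ sp k (B ⊗[k] H),
      m.hom ≫ pt Algebra.TensorProduct.includeLeft = fst _ _ ∧
      m.hom ≫ pt Algebra.TensorProduct.includeRight = snd _ _ ∧
      ∀ (K : Type u) [CommRing K] [Algebra k K] (x : B →ₐ[k] K) (g : H →ₐ[k] K),
        CartesianMonoidalCategory.lift (pt x) (pt g) ≫ m.hom = pt (Algebra.TensorProduct.lift x g fun _ _ => .all _ _) := by
  let m : sp k B ⊗ sp k H ≅ sp k (B ⊗[k] H) :=
    Functor.Monoidal.μIso (algSpec (CommRingCat.of k)) (op (.of k B)) (op (.of k H))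
  have hm : ∀ (K : Type u) [CommRing K] [Algebra k K] (x : B →ₐ[k] K) (g : H →ₐ[k] K),
      CartesianMonoidalCategory.lift (pt x) (pt g) ≫ m.hom = pt (Algebra.TensorProduct.lift x g fun _ _ => .all _ _) :=
    fun K _ _ x g => lift_pt_pt x g
  have hid : Algebra.TensorProduct.lift (Algebra.TensorProduct.includeLeft : B →ₐ[k] B ⊗[k] H)
      Algebra.TensorProduct.includeRight (fun _ _ => .all _ _) = AlgHom.id k _ :=
    Algebra.TensorProduct.ext' fun a b => by simp
  have hinv : m.inv = lift (pt Algebra.TensorProduct.includeLeft) (pt Algebra.TensorProduct.includeRight) := by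
    rw [← cancel_mono m.hom, Iso.inv_hom_id, hm, hid, pt_id]
  refine ⟨m, ?_, ?_, hm⟩
  · rw [← cancel_epi m.inv, Iso.inv_hom_id_assoc, hinv, lift_fst]
  · rw [← cancel_epi m.inv, Iso.inv_hom_id_assoc, hinv, lift_snd]

/-- The coaction of an action on an affine scheme. -/
theorem exists_coact {G X : Over (Spec (CommRingCat.of k))} [GrpObj G] [IsAffine X.left] (a : AlgGrp.Action G X)
    {H : Type u} [CommRing H] [HopfAlgebra k H] (e : sp k H ≅ G) [IsMonHom e.hom] :
    ∃ (B : Type u) (_ : CommRing B) (_ : Algebra k B) (_ : HopfRep.Comod k H B) (_ : GLin.IsCoactAlg k H B)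
      (eX : sp k B ≅ X) (w : G ⊗ X ≅ sp k (B ⊗[k] H)),
      snd G X ≫ eX.inv = w.hom ≫ pt Algebra.TensorProduct.includeLeft ∧
      a.act ≫ eX.inv = w.hom ≫ pt (GLin.coactAlgHom k H B) := by
  obtain ⟨B', ⟨eX'⟩⟩ : (algSpec (CommRingCat.of k)).essImage X := essImage_algSpec.mpr ‹_›
  obtain ⟨B, rfl⟩ : ∃ B : CommAlgCat.{u} k, B' = op B := ⟨B'.unop, rfl⟩
  let eX : sp k B ≅ X := eX'
  obtain ⟨m, hm₁, hm₂, hm⟩ := exists_prod_iso (k := k) B H
  let t' : sp k B ⊗ sp k H ⟶ G ⊗ X := lift ((snd _ _ ≫ e.hom)⁻¹) (fst _ _ ≫ eX.hom)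
  let t : G ⊗ X ⟶ sp k B ⊗ sp k H := lift (snd G X ≫ eX.inv) ((fst G X)⁻¹ ≫ e.inv)
  have h1 : t ≫ t' = 𝟙 _ := by
    ext
    · simp only [t, t', Category.assoc, lift_fst, GrpObj.comp_inv, lift_snd_assoc, Iso.inv_hom_id,
        Category.comp_id, _root_.inv_inv, Category.id_comp]
    · simp only [t, t', Category.assoc, lift_snd, lift_fst_assoc, Iso.inv_hom_id, Category.comp_id, Category.id_comp]
  have h2 : t' ≫ t = 𝟙 _ := by
    ext
    · simp only [t, t', Category.assoc, lift_fst, lift_snd_assoc, Iso.hom_inv_id, Category.comp_id, Category.id_comp]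
    · simp only [t, t', Category.assoc, lift_snd, Category.id_comp]
      rw [← Category.assoc, GrpObj.comp_inv, lift_fst, _root_.inv_inv, Category.assoc, Iso.hom_inv_id, Category.comp_id]
  let θ : G ⊗ X ≅ sp k B ⊗ sp k H := ⟨t, t', h1, h2⟩
  let r : sp k B ⊗ sp k H ⟶ sp k B := t' ≫ a.act ≫ eX.inv
  have hr : ∀ {T : Over (Spec (CommRingCat.of k))} (x : T ⟶ sp k B) (g : T ⟶ sp k H),
      lift x g ≫ r = lift ((g ≫ e.hom)⁻¹) (x ≫ eX.hom) ≫ a.act ≫ eX.inv := fun x g => by
    simp only [r, t', ← Category.assoc, comp_lift, GrpObj.comp_inv, lift_snd, lift_fst]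
  obtain ⟨ρ, hρ⟩ := exists_pt (m.inv ≫ r)
  have hmr : r = m.hom ≫ pt ρ := by rw [hρ, Iso.hom_inv_id_assoc]
  have hpt : ∀ {K : Type u} [CommRing K] [Algebra k K] (x : B →ₐ[k] K) (g : H →ₐ[k] K),
      CartesianMonoidalCategory.lift (pt x) (pt g) ≫ r = pt ((Algebra.TensorProduct.lift x g fun _ _ => .all _ _).comp ρ) := fun x g => by
    rw [hmr, ← Category.assoc, hm, pt_comp]
  have hone : (Algebra.TensorProduct.lift (AlgHom.id k B)
      ((Algebra.ofId k B).comp (Bialgebra.counitAlgHom k H)) fun _ _ => .all _ _).comp ρ = AlgHom.id k B := by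
    apply pt_injective
    rw [← hpt, pt_id, ← one_eq_pt, hr, MonObj.one_comp, inv_one, ← Category.assoc, GrpAct.one_smul',
      Category.assoc, Iso.hom_inv_id, Category.comp_id]
  let xB : B →ₐ[k] B ⊗[k] (H ⊗[k] H) := Algebra.TensorProduct.includeLeft
  let g₁ : H →ₐ[k] B ⊗[k] (H ⊗[k] H) :=
    (Algebra.TensorProduct.includeRight : H ⊗[k] H →ₐ[k] B ⊗[k] (H ⊗[k] H)).comp Algebra.TensorProduct.includeLeft
  let g₂ : H →ₐ[k] B ⊗[k] (H ⊗[k] H) :=
    (Algebra.TensorProduct.includeRight : H ⊗[k] H →ₐ[k] B ⊗[k] (H ⊗[k] H)).comp Algebra.TensorProduct.includeRight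
  have hmul : (Algebra.TensorProduct.lift ((Algebra.TensorProduct.lift xB g₁ fun _ _ => .all _ _).comp ρ) g₂
        fun _ _ => .all _ _).comp ρ =
      (Algebra.TensorProduct.lift xB
        ((Algebra.TensorProduct.lift g₁ g₂ fun _ _ => .all _ _).comp (Bialgebra.comulAlgHom k H))
        fun _ _ => .all _ _).comp ρ := by
    apply pt_injective
    rw [← hpt, ← hpt, ← hpt, ← pt_mul_pt, hr, hr, hr]
    simp only [Category.assoc, Iso.inv_hom_id, Category.comp_id]
    rw [← Category.assoc, ← Category.assoc, ← GrpAct.mul_smul, ← _root_.mul_inv_rev, MonObj.mul_comp]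
  let cmd : HopfRep.Comod k H B :=
    { coact := ρ.toLinearMap
      coassoc := by
        ext b
        have hb := AlgHom.congr_fun hmul b
        simp only [AlgHom.comp_apply] at hb
        simp only [LinearMap.comp_apply, LinearEquiv.coe_coe, AlgHom.toLinearMap_apply]
        refine (Eq.trans ?_ hb).trans ?_
        · generalize ρ b = t
          induction t using TensorProduct.induction_on with
          | zero => simp
          | add x y hx hy => simp only [map_add, hx, hy]
          | tmul c d =>
            simp only [LinearMap.rTensor_tmul, AlgHom.toLinearMap_apply, Algebra.TensorProduct.lift_tmul,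
              AlgHom.comp_apply]
            generalize ρ c = s
            induction s using TensorProduct.induction_on with
            | zero => simp
            | add x y hx hy => simp only [map_add, add_tmul, add_mul, hx, hy]
            | tmul p q => simp [xB, g₁, g₂]
        · generalize ρ b = t
          induction t using TensorProduct.induction_on with
          | zero => simp
          | add x y hx hy => simp only [map_add, hx, hy]
          | tmul c d =>
            simp only [LinearMap.lTensor_tmul, Algebra.TensorProduct.lift_tmul, AlgHom.comp_apply,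
              Bialgebra.comulAlgHom_apply]
            generalize CoalgebraStruct.comul (R := k) d = s
            induction s using TensorProduct.induction_on with
            | zero => simp
            | add x y hx hy => simp only [map_add, mul_add, tmul_add, hx, hy]
            | tmul p q => simp [xB, g₁, g₂]
      counit_comp := by
        ext b
        have hb := AlgHom.congr_fun hone b
        simp only [AlgHom.comp_apply, AlgHom.id_apply] at hb
        simp only [LinearMap.comp_apply, AlgHom.toLinearMap_apply]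
        apply (Algebra.TensorProduct.rid k k B).injective
        refine Eq.trans ?_ (hb.trans (by simp))
        generalize ρ b = t
        induction t using TensorProduct.induction_on with
        | zero => simp
        | add x y hx hy => simp only [map_add, hx, hy]
        | tmul c d => simp [Algebra.smul_def, mul_comm, Algebra.ofId_apply] }
  letI := cmd
  haveI hca : GLin.IsCoactAlg k H B := ⟨map_one ρ, map_mul ρ⟩
  have hco : GLin.coactAlgHom k H B = ρ := rfl
  refine ⟨B, inferInstance, inferInstance, cmd, hca, eX, θ ≪≫ m, ?_, ?_⟩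
  · rw [Iso.trans_hom, Category.assoc, hm₁, show θ.hom = t from rfl, lift_fst]
  · rw [Iso.trans_hom, Category.assoc, hco, ← hmr, show θ.hom = t from rfl, ← Category.assoc t t', h1,
      Category.id_comp]

end Groth.Agent.AffQuot
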