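import Mathlib.RingTheory.Spectrum.Prime.Topology
import Mathlib.RingTheory.TensorProduct.Maps
import Mathlib.RingTheory.Noetherian.Basic
import Mathlib.LinearAlgebra.TensorProduct.Tower

/-!
# Reynolds data

A pair of algebra maps `σ π : R → T` over `C` together with a `π`-linear averaging map `T → R` whose
composite with `σ` is a retraction onto `C`.  This is what a linearly reductive group action on an affine
scheme leaves behind at the level of rings, and it is stable under every base change of `C`.
-/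

set_option autoImplicit false

universe u

open TensorProduct

namespace Groth.Agent.AffQuot

variable {C R T : Type u} [CommRing C] [CommRing R] [CommRing T] [Algebra C R] [Algebra C T]

/-- A Reynolds datum for a pair of maps. -/
structure Datum (C R T : Type u) [CommRing C] [CommRing R] [CommRing T] [Algebra C R] [Algebra C T] where
  /-- pullback along the action -/
  σ : R →ₐ[C] T
  /-- pullback along the projection -/
  π : R →ₐ[C] T
  /-- averaging -/
  L : T →ₗ[C] R
  L_mul : ∀ r t, L (π r * t) = r * L t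
  L_one : L 1 = 1
  /-- the retraction -/
  E : R →ₗ[C] C
  E_one : E 1 = 1
  E_spec : ∀ r, algebraMap C R (E r) = L (σ r)

namespace Datum

variable (D : Datum C R T)

lemma E_algebraMap (c : C) : D.E (algebraMap C R c) = c := by
  rw [Algebra.algebraMap_eq_smul_one, map_smul, D.E_one, smul_eq_mul, mul_one]

lemma injective (D : Datum C R T) : Function.Injective (algebraMap C R) :=
  Function.LeftInverse.injective D.E_algebraMap

lemma eq_algebraMap {x : R} (hx : D.σ x = D.π x) : algebraMap C R (D.E x) = x := by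
  rw [D.E_spec, hx, ← mul_one (D.π x), D.L_mul, D.L_one, mul_one]

lemma mem_range_iff (x : R) : x ∈ Set.range (algebraMap C R) ↔ D.σ x = D.π x :=
  ⟨by rintro ⟨c, rfl⟩; simp, fun hx => ⟨_, D.eq_algebraMap hx⟩⟩

lemma E_map_le (p : Ideal C) {x : R} (hx : x ∈ p.map (algebraMap C R)) : D.E x ∈ p := by
  suffices ∀ r : R, D.E (r * x) ∈ p by simpa using this 1
  induction hx using Submodule.span_induction with
  | mem y hy =>
    obtain ⟨c, hc, rfl⟩ := hy
    intro r
    rw [mul_comm, ← Algebra.smul_def, map_smul, smul_eq_mul]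
    exact p.mul_mem_right _ hc
  | zero => simp
  | add y z _ _ hy hz => intro r; rw [mul_add, map_add]; exact p.add_mem (hy r) (hz r)
  | smul a y _ hy => intro r; rw [smul_eq_mul, ← mul_assoc]; exact hy _

lemma L_map_le (I : Ideal R) {t : T} (ht : t ∈ I.map D.π) : D.L t ∈ I := by
  suffices ∀ s : T, D.L (t * s) ∈ I by simpa using this 1
  induction ht using Submodule.span_induction with
  | mem y hy =>
    obtain ⟨i, hi, rfl⟩ := hy
    intro s
    rw [D.L_mul]
    exact I.mul_mem_right _ hi
  | zero => simp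
  | add y z _ _ hy hz => intro s; rw [add_mul, map_add]; exact I.add_mem (hy s) (hz s)
  | smul a y _ hy => intro s; rw [smul_eq_mul, mul_comm a y, mul_assoc]; exact hy _

/-- A prime over a given prime of `C` containing an ideal that the retraction maps into it. -/
lemma exists_prime (p : Ideal C) [p.IsPrime] (J : Ideal R) (hJ : ∀ r ∈ J, D.E r ∈ p) :
    ∃ q : Ideal R, q.IsPrime ∧ J ≤ q ∧ q.comap (algebraMap C R) = p := by
  have hd : Disjoint ((J ⊔ p.map (algebraMap C R) : Ideal R) : Set R)
      ((p.primeCompl.map (algebraMap C R) : Submonoid R) : Set R) := by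
    rw [Set.disjoint_left]
    rintro x hx ⟨s, hs, rfl⟩
    obtain ⟨a, ha, b, hb, hab⟩ := Submodule.mem_sup.1 hx
    apply hs
    rw [← D.E_algebraMap s, ← hab, map_add]
    exact p.add_mem (hJ a ha) (D.E_map_le p hb)
  obtain ⟨q, hq, hle, hdisj⟩ := Ideal.exists_le_prime_disjoint _ _ hd
  refine ⟨q, hq, le_sup_left.trans hle, le_antisymm (fun c hc => ?_) (Ideal.map_le_iff_le_comap.1 (le_sup_right.trans hle))⟩
  by_contra h
  exact Set.disjoint_left.1 hdisj (show algebraMap C R c ∈ q from hc) ⟨c, h, rfl⟩

/-- Closed subsets of the spectrum stable under the pair. -/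
def Stable (W : Set (PrimeSpectrum R)) : Prop :=
  ∀ q : PrimeSpectrum T, PrimeSpectrum.comap D.π.toRingHom q ∈ W → PrimeSpectrum.comap D.σ.toRingHom q ∈ W

/-- The ideal of functions whose pullback along `σ` lies in the ideal of `W` pulled back along `π`. -/
def jIdeal (W : Set (PrimeSpectrum R)) : Ideal R :=
  ((PrimeSpectrum.vanishingIdeal W).map D.π).comap D.σ

lemma algebraMap_E_mem {W : Set (PrimeSpectrum R)} {r : R} (hr : r ∈ D.jIdeal W) :
    algebraMap C R (D.E r) ∈ PrimeSpectrum.vanishingIdeal W := by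
  rw [D.E_spec]
  exact D.L_map_le _ hr

lemma zeroLocus_jIdeal {W : Set (PrimeSpectrum R)} (hW : IsClosed W) (hs : D.Stable W) :
    PrimeSpectrum.zeroLocus (D.jIdeal W : Set R) ⊆ W := by
  let f : R →+* T ⧸ (PrimeSpectrum.vanishingIdeal W).map D.π := (Ideal.Quotient.mk _).comp D.σ.toRingHom
  have hker : RingHom.ker f = D.jIdeal W := by
    ext x
    exact Ideal.Quotient.eq_zero_iff_mem
  rw [← hker, ← PrimeSpectrum.closure_range_comap]
  refine closure_minimal ?_ hW
  rintro _ ⟨q, rfl⟩
  refine hs (PrimeSpectrum.comap (Ideal.Quotient.mk _) q) ?_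
  suffices h : PrimeSpectrum.comap D.π.toRingHom (PrimeSpectrum.comap (Ideal.Quotient.mk _) q) ∈
      PrimeSpectrum.zeroLocus (PrimeSpectrum.vanishingIdeal W : Set R) from
    Eq.mp (congrArg (fun s : Set (PrimeSpectrum R) => PrimeSpectrum.comap D.π.toRingHom
      (PrimeSpectrum.comap (Ideal.Quotient.mk _) q) ∈ s)
      ((PrimeSpectrum.zeroLocus_vanishingIdeal_eq_closure W).trans hW.closure_eq)) h
  rw [PrimeSpectrum.mem_zeroLocus]
  intro i hi
  show Ideal.Quotient.mk ((PrimeSpectrum.vanishingIdeal W).map D.π) (D.π i) ∈ q.asIdeal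
  rw [Ideal.Quotient.eq_zero_iff_mem.2 (Ideal.mem_map_of_mem _ hi)]
  exact zero_mem _

lemma surjective_comap (D : Datum C R T) : Function.Surjective (PrimeSpectrum.comap (algebraMap C R)) := fun p => by
  obtain ⟨q, hq, -, h⟩ := D.exists_prime p.asIdeal ⊥ (by simp)
  exact ⟨⟨q, hq⟩, PrimeSpectrum.ext h⟩

theorem isClosed_image {W : Set (PrimeSpectrum R)} (hW : IsClosed W) (hs : D.Stable W) :
    IsClosed (PrimeSpectrum.comap (algebraMap C R) '' W) := by
  suffices PrimeSpectrum.comap (algebraMap C R) '' W =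
      PrimeSpectrum.zeroLocus ((PrimeSpectrum.vanishingIdeal W).comap (algebraMap C R) : Set C) by
    rw [this]; exact PrimeSpectrum.isClosed_zeroLocus _
  refine Set.Subset.antisymm ?_ fun p hp => ?_
  · rintro _ ⟨q, hq, rfl⟩ c hc
    exact (PrimeSpectrum.mem_vanishingIdeal W _).1 hc q hq
  · obtain ⟨q, hq, hle, h⟩ := D.exists_prime p.asIdeal (D.jIdeal W) fun r hr => hp (D.algebraMap_E_mem hr)
    exact ⟨⟨q, hq⟩, D.zeroLocus_jIdeal hW hs hle, PrimeSpectrum.ext h⟩

theorem iInter_image_eq_empty {ι : Type*} {W : ι → Set (PrimeSpectrum R)} (hW : ∀ i, IsClosed (W i))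
    (hs : ∀ i, D.Stable (W i)) (h : ⋂ i, W i = ∅) :
    ⋂ i, PrimeSpectrum.comap (algebraMap C R) '' W i = ∅ := by
  rw [Set.eq_empty_iff_forall_notMem]
  intro p hp
  have htop : (⨆ i, D.jIdeal (W i)) = ⊤ := by
    rw [← PrimeSpectrum.zeroLocus_empty_iff_eq_top, PrimeSpectrum.zeroLocus_iSup, ← Set.subset_empty_iff, ← h]
    exact Set.iInter_mono fun i => D.zeroLocus_jIdeal (hW i) (hs i)
  have hE : ∀ x ∈ (⨆ i, D.jIdeal (W i) : Ideal R), D.E x ∈ p.asIdeal := by
    intro x hx
    induction hx using Submodule.iSup_induction' with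
    | mem i x hx =>
      obtain ⟨q, hq, hqp⟩ := Set.mem_iInter.1 hp i
      rw [← hqp]
      exact (PrimeSpectrum.mem_vanishingIdeal _ _).1 (D.algebraMap_E_mem hx) q hq
    | zero => simp
    | add x y _ _ hx hy => rw [map_add]; exact p.asIdeal.add_mem hx hy
  exact p.isPrime.ne_top ((Ideal.eq_top_iff_one _).2 (D.E_one ▸ hE 1 (by rw [htop]; trivial)))

theorem exists_separating {W₁ W₂ : Set (PrimeSpectrum R)} (h₁ : IsClosed W₁) (h₂ : IsClosed W₂)
    (hs₁ : D.Stable W₁) (hs₂ : D.Stable W₂) (hd : Disjoint W₁ W₂) :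
    ∃ c : C, W₁ ⊆ PrimeSpectrum.zeroLocus {algebraMap C R c} ∧
      W₂ ⊆ PrimeSpectrum.zeroLocus {1 - algebraMap C R c} := by
  have htop : D.jIdeal W₁ ⊔ D.jIdeal W₂ = ⊤ := by
    rw [← PrimeSpectrum.zeroLocus_empty_iff_eq_top, PrimeSpectrum.zeroLocus_sup, ← Set.subset_empty_iff,
      ← Set.disjoint_iff_inter_eq_empty.1 hd]
    exact Set.inter_subset_inter (D.zeroLocus_jIdeal h₁ hs₁) (D.zeroLocus_jIdeal h₂ hs₂)
  obtain ⟨a, ha, b, hb, hab⟩ := Submodule.mem_sup.1 ((Ideal.eq_top_iff_one _).1 htop)
  refine ⟨D.E a, fun q hq => ?_, fun q hq => ?_⟩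
  · rw [PrimeSpectrum.mem_zeroLocus, Set.singleton_subset_iff]
    exact (PrimeSpectrum.mem_vanishingIdeal _ _).1 (D.algebraMap_E_mem ha) q hq
  · rw [PrimeSpectrum.mem_zeroLocus, Set.singleton_subset_iff]
    have : (1 : R) - algebraMap C R (D.E a) = algebraMap C R (D.E b) := by
      rw [sub_eq_iff_eq_add', ← map_add, ← map_add, hab, D.E_one, map_one]
    rw [this]
    exact (PrimeSpectrum.mem_vanishingIdeal _ _).1 (D.algebraMap_E_mem hb) q hq

theorem isNoetherianRing (D : Datum C R T) [IsNoetherianRing R] : IsNoetherianRing C := by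
  rw [isNoetherianRing_iff, isNoetherian_iff]
  refine (InvImage.wf (fun I : Ideal C => I.map (algebraMap C R))
    (isNoetherian_iff.1 (inferInstanceAs (IsNoetherian R R)))).mono fun I J hIJ => ?_
  refine lt_of_le_of_ne (Ideal.map_mono hIJ.le) fun he => hIJ.not_ge fun c hc => ?_
  have he' : J.map (algebraMap C R) = I.map (algebraMap C R) := he
  have : algebraMap C R c ∈ J.map (algebraMap C R) := he' ▸ Ideal.mem_map_of_mem _ hc
  simpa [D.E_algebraMap] using D.E_map_le J this

section BaseChange

variable (C' : Type u) [CommRing C'] [Algebra C C']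

/-- Base change of a datum. -/
noncomputable def baseChange : Datum C' (C' ⊗[C] R) (C' ⊗[C] T) where
  σ := Algebra.TensorProduct.map (AlgHom.id C' C') D.σ
  π := Algebra.TensorProduct.map (AlgHom.id C' C') D.π
  L := D.L.baseChange C'
  L_mul r t := by
    induction r using TensorProduct.induction_on with
    | zero => simp
    | add x y hx hy => simp only [map_add, add_mul, hx, hy]
    | tmul a x =>
      induction t using TensorProduct.induction_on with
      | zero => simp
      | add u v hu hv => simp only [map_add, mul_add, hu, hv]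
      | tmul b y => simp [D.L_mul]
  L_one := by simp [Algebra.TensorProduct.one_def, D.L_one]
  E := (AlgebraTensorModule.rid C C' C').toLinearMap ∘ₗ D.E.baseChange C'
  E_one := by simp [Algebra.TensorProduct.one_def, D.E_one]
  E_spec r := by
    induction r using TensorProduct.induction_on with
    | zero => simp
    | add x y hx hy => simp only [map_add, hx, hy]
    | tmul a x =>
      simp only [LinearMap.comp_apply, LinearMap.baseChange_tmul, LinearEquiv.coe_coe, AlgebraTensorModule.rid_tmul,
        Algebra.TensorProduct.map_tmul, AlgHom.id_apply, Algebra.TensorProduct.algebraMap_apply, Algebra.algebraMap_self,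
        RingHom.id_apply]
      rw [TensorProduct.smul_tmul, ← Algebra.algebraMap_eq_smul_one, D.E_spec]

end BaseChange

end Datum

end Groth.Agent.AffQuot
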