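import Groth.Agent.AffQuot.Orbit
import Mathlib.AlgebraicGeometry.ZariskisMainTheorem
import Mathlib.AlgebraicGeometry.Morphisms.SchemeTheoreticallyDominant

/-!
# The family of orbit maps over a test scheme and its equivariant Zariski main theorem
-/

set_option autoImplicit false
set_option backward.isDefEq.respectTransparency false
set_option linter.style.haveILetI false

universe u

open CategoryTheory MonoidalCategory CartesianMonoidalCategory MonObj GrpObj AlgebraicGeometry

namespace Groth.Agent.AffQuot

open Limits

section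

variable {S : Scheme.{u}} {G X Y V : Over S} [GrpObj G] (a : AlgGrp.Action G X) (φ : X ⟶ Y)
  (hinv : GIT.IsInvariant a φ) (g : V ⟶ X)

/-- The base change of `X ⟶ Y` along a test scheme. -/
noncomputable abbrev famP : Over S := pullback φ (g ≫ φ)

/-- The action on the base change. -/
noncomputable abbrev famA : AlgGrp.Action G (famP φ g) := EqInt.baseChange a φ hinv (g ≫ φ)

/-- The section defined by the test point. -/
noncomputable abbrev famE : V ⟶ famP φ g := pullback.lift g (𝟙 V) (Category.id_comp _).symm

/-- The orbit map of the family of test points. -/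
noncomputable def famF : G ⊗ V ⟶ famP φ g := (G ◁ famE φ g) ≫ (famA a φ hinv g).act

theorem famF_fst : famF a φ hinv g ≫ pullback.fst φ (g ≫ φ) = (G ◁ g) ≫ a.act := by
  rw [famF, Category.assoc, EqInt.baseChange_fst, ← whiskerLeft_comp_assoc, pullback.lift_fst]

theorem famF_snd : famF a φ hinv g ≫ pullback.snd φ (g ≫ φ) = snd G V := by
  rw [famF, Category.assoc, EqInt.baseChange_invariant, ← Category.assoc, whiskerLeft_snd, Category.assoc,
    pullback.lift_snd, Category.comp_id]

theorem famF_psiY : ∃ m : (famP φ g).left ⟶ Limits.pullback φ.left φ.left,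
    m ≫ pullback.snd φ.left φ.left = (pullback.snd φ (g ≫ φ)).left ≫ g.left ∧
    IsPullback m (pullback.snd φ (g ≫ φ)).left (pullback.snd φ.left φ.left) g.left ∧
    IsPullback (G ◁ g).left (famF a φ hinv g).left (GIT.PsiY a φ hinv) m := by
  have hp := (IsPullback.of_hasPullback φ (g ≫ φ)).map (Over.forget S)
  let m : (famP φ g).left ⟶ Limits.pullback φ.left φ.left :=
    pullback.lift (pullback.fst φ (g ≫ φ)).left ((pullback.snd φ (g ≫ φ)).left ≫ g.left) (by
      rw [Category.assoc, ← Over.comp_left, ← Over.comp_left, ← Over.comp_left, pullback.condition])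
  have hm : IsPullback m (pullback.snd φ (g ≫ φ)).left (pullback.snd φ.left φ.left) g.left :=
    IsPullback.of_right (by rw [show m ≫ pullback.fst φ.left φ.left = _ from pullback.lift_fst _ _ _]; exact hp)
      (pullback.lift_snd _ _ _) (IsPullback.of_hasPullback φ.left φ.left)
  refine ⟨m, pullback.lift_snd _ _ _, hm, IsPullback.of_bot ?_ ?_ hm⟩
  · rw [GIT.PsiY, pullback.lift_snd, ← Over.comp_left, famF_snd]
    exact ((Blanchard.isPullback_whiskerLeft G g).map (Over.forget S)).flip
  · apply pullback.hom_ext
    · rw [Category.assoc, Category.assoc, GIT.PsiY, pullback.lift_fst, pullback.lift_fst, ← Over.comp_left,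
        ← Over.comp_left, famF_fst]
    · rw [Category.assoc, Category.assoc, GIT.PsiY, pullback.lift_snd, pullback.lift_snd, ← Over.comp_left,
        ← Over.comp_left, ← Over.comp_left, reassoc_of% famF_snd a φ hinv g, whiskerLeft_snd]

/-- Orbits of the family are closed over a field when the action is closed. -/
theorem isClosed_range_famF [IsSeparated S.toSpecΓ] (hc : GIT.IsClosedAction a) (Ω : Type u) [Field Ω] [IsAlgClosed Ω]
    (e : V.left ≅ Spec (CommRingCat.of Ω)) : IsClosed (Set.range (famF a φ hinv g).left) := by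
  let j : famP φ g ⟶ X ⊗ V := lift (pullback.fst φ (g ≫ φ)) (pullback.snd φ (g ≫ φ))
  haveI : Mono j := ⟨fun p q e => Limits.pullback.hom_ext
    (by simpa [j] using congr($e ≫ fst X V)) (by simpa [j] using congr($e ≫ snd X V))⟩
  haveI : Mono j.left := Over.mono_left_of_mono j
  have he : famF a φ hinv g ≫ j = GIT.psi a g := by
    refine CartesianMonoidalCategory.hom_ext _ _ ?_ ?_
    · rw [Category.assoc, lift_fst, famF_fst, GIT.psi, lift_fst]
    · rw [Category.assoc, lift_snd, famF_snd, GIT.psi, lift_snd]
  have : Set.range (famF a φ hinv g).left = j.left ⁻¹' Set.range (GIT.psi a g).left := by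
    rw [← he, Over.comp_left]
    ext p
    refine ⟨?_, ?_⟩
    · rintro ⟨u, rfl⟩; exact ⟨u, Scheme.Hom.comp_apply _ _ _⟩
    · rintro ⟨u, hu⟩; exact ⟨u, j.left.injective ((Scheme.Hom.comp_apply _ _ _).symm.trans hu)⟩
  rw [this]
  exact (hc Ω V e g).preimage j.left.continuous

end

section ZMT

variable {k : Type u} [Field k] {G P V : Over (Spec (CommRingCat.of k))} [GrpObj G]

/-- Cancellation for schematically dominant morphisms into affine targets. -/
theorem eq_of_isSchemeTheoreticallyDominant {A B Z : Scheme.{u}} [IsAffine Z] (f : A ⟶ B)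
    [IsSchemeTheoreticallyDominant f] [QuasiCompact f] {x y : B ⟶ Z} (h : f ≫ x = f ≫ y) : x = y := by
  refine ext_of_isAffine (CommRingCat.hom_ext (RingHom.ext fun s => f.app_injective ⊤ ?_))
  exact congr(($h).appTop s)

/-- Zariski's main theorem for a family of orbit maps: the orbit map factors equivariantly as an open immersion
followed by an integral morphism. -/
theorem exists_equivariant_factorization [Smooth G.hom] [IsAffine G.left] [IsAffine P.left] [IsAffine V.left]
    (aP : AlgGrp.Action G P) (e : V ⟶ P) (f : G ⊗ V ⟶ P) (hf : (G ◁ e) ≫ aP.act = f)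
    [LocallyOfFiniteType f.left] [LocallyQuasiFinite f.left] :
    ∃ (Z : Over (Spec (CommRingCat.of k))) (aZ : AlgGrp.Action G Z) (j : G ⊗ V ⟶ Z) (q : Z ⟶ P),
      IsAffine Z.left ∧ IsOpenImmersion j.left ∧ IsSchemeTheoreticallyDominant j.left ∧ QuasiCompact j.left ∧
      IsIntegralHom q.left ∧ j ≫ q = f ∧ aZ.act ≫ q = (G ◁ q) ≫ aP.act ∧
      (G ◁ (lift (1 : V ⟶ G) (𝟙 V) ≫ j)) ≫ aZ.act = j := by
  haveI : IsAffine (G ⊗ V).left := inferInstanceAs (IsAffine (Limits.pullback G.hom V.hom))
  haveI : IsAffine (G ⊗ P).left := inferInstanceAs (IsAffine (Limits.pullback G.hom P.hom))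
  haveI : IsAffineHom f.left := isAffineHom_of_isAffine f.left
  haveI : Flat G.hom := inferInstance
  let Z : Over (Spec (CommRingCat.of k)) := Over.mk (f.left.fromNormalization ≫ P.hom)
  let q : Z ⟶ P := Over.homMk f.left.fromNormalization
  let j : G ⊗ V ⟶ Z := Over.homMk f.left.toNormalization (by
    show f.left.toNormalization ≫ f.left.fromNormalization ≫ P.hom = _
    rw [Scheme.Hom.toNormalization_fromNormalization_assoc, Over.w])
  have hjq : j ≫ q = f := Over.OverMorphism.ext f.left.toNormalization_fromNormalization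
  haveI hqint : IsIntegralHom q.left := inferInstanceAs (IsIntegralHom f.left.fromNormalization)
  haveI hZa : IsAffine Z.left := isAffine_of_isAffineHom q.left
  haveI hjsd : IsSchemeTheoreticallyDominant j.left := ⟨f.left.ker_toNormalization⟩
  haveI : IsAffineHom j.left := isAffineHom_of_isAffine j.left
  haveI : IsAffineHom q.left := isAffineHom_of_isAffine q.left
  -- Zariski's main theorem
  haveI hjopen : IsOpenImmersion j.left := by
    obtain ⟨U, hU, hU'⟩ := f.left.exists_isIso_morphismRestrict_toNormalization
    haveI := hU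
    have htop : f.left.toNormalization ⁻¹ᵁ U = ⊤ := TopologicalSpace.Opens.ext (hU'.trans
      (Set.eq_univ_of_forall fun x => f.left.quasiFiniteAt x))
    haveI : IsIso (f.left.toNormalization ⁻¹ᵁ U).ι := by
      rw [htop]; exact inferInstanceAs (IsIso (G ⊗ V).left.topIso.hom)
    have e : j.left = inv (f.left.toNormalization ⁻¹ᵁ U).ι ≫ (f.left.toNormalization ∣_ U) ≫ U.ι := by
      rw [IsIso.eq_inv_comp, morphismRestrict_ι]
      rfl
    rw [e]
    infer_instance
  -- the multiplication on the source
  let m : G ⊗ (G ⊗ V) ⟶ G ⊗ V := (α_ G G V).inv ≫ (μ[G] ▷ V)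
  have hmf : m ≫ f = (G ◁ f) ≫ aP.act := by
    simp only [m, Category.assoc, ← hf]
    rw [← whisker_exchange_assoc, aP.mul_act, ← associator_inv_naturality_right_assoc, Iso.inv_hom_id_assoc,
      MonoidalCategory.whiskerLeft_comp, Category.assoc]
  -- base change of the normalisation along the projection
  let sG := (snd G P).left
  haveI : Smooth sG := MorphismProperty.pullback_snd (P := @Smooth) G.hom P.hom inferInstance
  have sqU : IsPullback (snd G (G ⊗ V)).left (G ◁ f).left f.left sG :=
    (Blanchard.isPullback_whiskerLeft G f).map (Over.forget _)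
  have sqZ : IsPullback (snd G Z).left (G ◁ q).left q.left sG :=
    (Blanchard.isPullback_whiskerLeft G q).map (Over.forget _)
  let iU := sqU.isoPullback
  let iZ := sqZ.isoPullback
  let n := f.left.normalizationPullback sG
  let f' := pullback.snd f.left sG
  haveI : IsAffineHom (Limits.pullback.snd q.left aP.act.left) :=
    MorphismProperty.pullback_snd (P := @IsAffineHom) _ _ inferInstance
  haveI : IsIntegralHom (Limits.pullback.snd q.left aP.act.left) :=
    MorphismProperty.pullback_snd (P := @IsIntegralHom) _ _ hqint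
  have hcond : (iU.inv ≫ (m ≫ j).left) ≫ q.left = f' ≫ aP.act.left := by
    rw [Category.assoc, ← Over.comp_left, Category.assoc, hjq, hmf, Over.comp_left, ← Category.assoc]
    congr 1
    exact sqU.isoPullback_inv_snd
  let F := f'.normalizationDesc (pullback.lift (iU.inv ≫ (m ≫ j).left) f' hcond)
    (pullback.snd q.left aP.act.left) (by rw [pullback.lift_snd])
  let act' : (G ⊗ Z).left ⟶ Z.left := iZ.hom ≫ inv n ≫ F ≫ pullback.fst q.left aP.act.left
  have hactq : act' ≫ q.left = (G ◁ q).left ≫ aP.act.left := by
    simp only [act', Category.assoc, pullback.condition]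
    simp only [F, Scheme.Hom.normalizationDesc_comp_assoc]
    have : inv n ≫ f'.fromNormalization = pullback.snd q.left sG := by
      rw [IsIso.inv_comp_eq]
      exact (f.left.normalizationPullback_snd sG).symm
    rw [reassoc_of% this, ← Category.assoc]
    congr 1
    exact sqZ.isoPullback_hom_snd
  let act : G ⊗ Z ⟶ Z := Over.homMk act' (by
    rw [← Over.w q, reassoc_of% hactq, Over.w aP.act, Over.w (G ◁ q)])
  have hactq' : act ≫ q = (G ◁ q) ≫ aP.act := Over.OverMorphism.ext hactq
  have hjn : f'.toNormalization ≫ n = pullback.map f.left sG q.left sG j.left (𝟙 _) (𝟙 _)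
      (by rw [Category.comp_id, ← Over.comp_left, hjq]) (by rw [Category.comp_id, Category.id_comp]) :=
    Scheme.Hom.toNormalization_normalizationDesc _ _ _ _
  have hactj : (G ◁ j) ≫ act = m ≫ j := by
    refine Over.OverMorphism.ext ?_
    show (G ◁ j).left ≫ act' = (m ≫ j).left
    have h1 : (G ◁ j).left ≫ iZ.hom = iU.hom ≫ f'.toNormalization ≫ n := by
      rw [hjn]
      apply pullback.hom_ext
      · rw [Category.assoc, Category.assoc, pullback.lift_fst, sqZ.isoPullback_hom_fst,
          sqU.isoPullback_hom_fst_assoc, ← Over.comp_left, whiskerLeft_snd]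
        rfl
      · rw [Category.assoc, Category.assoc, pullback.lift_snd, Category.comp_id, sqZ.isoPullback_hom_snd,
          sqU.isoPullback_hom_snd, ← Over.comp_left, ← MonoidalCategory.whiskerLeft_comp, hjq]
    simp only [act', reassoc_of% h1, IsIso.hom_inv_id_assoc, F, Scheme.Hom.toNormalization_normalizationDesc_assoc,
      pullback.lift_fst, Iso.hom_inv_id_assoc]
  -- schematic density after flat base change
  have dom : ∀ (T : Over (Spec (CommRingCat.of k))), Flat T.hom →
      IsSchemeTheoreticallyDominant (T ◁ j).left ∧ QuasiCompact (T ◁ j).left := fun T hT => by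
    haveI := hT
    haveI : Flat (snd T Z).left := MorphismProperty.pullback_snd (P := @Flat) T.hom Z.hom inferInstance
    have sq : IsPullback (snd T (G ⊗ V)).left (T ◁ j).left j.left (snd T Z).left :=
      (Blanchard.isPullback_whiskerLeft T j).map (Over.forget _)
    exact ⟨IsSchemeTheoreticallyDominant.of_isPullback sq, MorphismProperty.of_isPullback sq
      (inferInstanceAs (QuasiCompact j.left))⟩
  obtain ⟨_, _⟩ := dom (G ⊗ G) (inferInstanceAs (Flat (Limits.pullback.fst G.hom G.hom ≫ G.hom)))
  let aZ : AlgGrp.Action G Z :=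
    { act := act
      one_act := by
        rw [← cancel_epi (λ_ Z).inv, Iso.inv_hom_id]
        refine Over.OverMorphism.ext (eq_of_isSchemeTheoreticallyDominant j.left ?_)
        rw [← Over.comp_left, ← Over.comp_left, Category.comp_id, leftUnitor_inv_naturality_assoc,
          whisker_exchange_assoc, hactj, ← Category.assoc, ← Category.assoc]
        congr 1
        have e : ((λ_ (G ⊗ V)).inv ≫ η[G] ▷ (G ⊗ V)) ≫ m = 𝟙 _ := by
          simp only [m, Category.assoc, associator_inv_naturality_left_assoc, ← MonoidalCategory.comp_whiskerRight,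
            MonObj.one_mul]
          simp
        rw [e, Category.id_comp]
      mul_act := by
        refine Over.OverMorphism.ext (eq_of_isSchemeTheoreticallyDominant ((G ⊗ G) ◁ j).left ?_)
        rw [← Over.comp_left, ← Over.comp_left]
        congr 1
        rw [whisker_exchange_assoc, hactj, associator_naturality_right_assoc, ← whiskerLeft_comp_assoc, hactj,
          MonoidalCategory.whiskerLeft_comp_assoc, hactj]
        simp only [← Category.assoc]
        congr 1
        refine CartesianMonoidalCategory.hom_ext _ _ ?_ ?_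
        · have hμ : (μ[G] : G ⊗ G ⟶ G) = fst G G * snd G G := by
            rw [Hom.mul_def, lift_fst_snd, Category.id_comp]
          simp [m, hμ, MonObj.comp_mul, _root_.mul_assoc]
        · simp [m] }
  refine ⟨Z, aZ, j, q, hZa, hjopen, hjsd, inferInstance, hqint, hjq, hactq', ?_⟩
  show (G ◁ (lift (1 : V ⟶ G) (𝟙 V) ≫ j)) ≫ act = j
  rw [MonoidalCategory.whiskerLeft_comp, Category.assoc, hactj, ← Category.assoc]
  have e : (G ◁ lift (1 : V ⟶ G) (𝟙 V)) ≫ m = 𝟙 _ := by
    refine CartesianMonoidalCategory.hom_ext _ _ ?_ ?_
    · simp only [m, Category.assoc, whiskerRight_fst]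
      rw [Category.id_comp]
      have h : fst (G ⊗ G) V ≫ μ[G] = (fst _ _ ≫ fst G G) * (fst _ _ ≫ snd G G) := by
        rw [Hom.mul_def, ← comp_lift, lift_fst_snd, Category.comp_id]
      rw [h, MonObj.comp_mul, MonObj.comp_mul]
      simp only [associator_inv_fst_fst, associator_inv_fst_snd, whiskerLeft_fst, whiskerLeft_snd_assoc, lift_fst,
        MonObj.comp_one, _root_.mul_one]
    · simp [m]
  rw [e, Category.id_comp]

end ZMT

end Groth.Agent.AffQuot
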