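import Groth.Agent.AffQuot.Main
import Groth.Agent.RedLR.Main

/-!
# Affine quotients by reductive groups in characteristic zero
-/

set_option autoImplicit false
set_option backward.isDefEq.respectTransparency false
set_option linter.style.haveILetI false

universe u

open CategoryTheory MonoidalCategory CartesianMonoidalCategory MonObj GrpObj AlgebraicGeometry

namespace Groth.Agent.AffQuot

/-- Reductivity of group schemes is invariant under isomorphisms. -/
theorem isReductive_of_iso {S : Scheme.{u}} {G G' : Over S} [GrpObj G] [GrpObj G'] (e : G ≅ G') [IsMonHom e.hom]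
    (h : Red.IsReductive G) : Red.IsReductive G' := by
  obtain ⟨ha, hs, hr⟩ := h
  haveI := ha; haveI := hs
  haveI : IsIso e.inv.left := inferInstanceAs (IsIso ((Over.forget _).map e.inv))
  refine ⟨?_, ?_, fun s => ?_⟩
  · rw [← Over.w e.inv]; infer_instance
  · rw [← Over.w e.inv]; infer_instance
  · let F := Over.pullback (Red.geomPt s)
    exact RedLR.isReductiveOver_of_grpIso
      (F.mapGrp.mapIso (@Grp.mkIso' _ _ _ G G' e _ _ ‹_› : Grp.mk G ≅ Grp.mk G')) (hr s)

/-- A reductive group over a field of characteristic zero is `Spec` of a linearly reductive Hopf algebra. -/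
theorem exists_linearlyReductive_hopf {k : Type u} [Field k] [CharZero k] {G : Over (Spec (CommRingCat.of k))}
    [GrpObj G] (hG : Red.IsReductive G) :
    ∃ (H : Type u) (_ : CommRing H) (_ : HopfAlgebra k H) (e : CoactBr.sp k H ≅ G) (_ : IsMonHom e.hom),
      HopfRep.IsLinearlyReductive k H ∧ Algebra.FiniteType k H := by
  haveI := hG.1
  haveI : IsAffine G.left := isAffine_of_isAffineHom G.hom
  obtain ⟨H, _, e, he⟩ := FinHopf.exists_hopf G
  haveI := he
  haveI : IsMonHom e.symm.hom := inferInstanceAs (IsMonHom e.inv)
  have hr := isReductive_of_iso e.symm hG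
  exact ⟨H, inferInstance, inferInstance, e, he, RedLR.isLinearlyReductive_of_isReductive hr,
    RedLR.finiteType_of_isReductive hr⟩

/-- The affine quotient by a reductive group in characteristic zero. -/
theorem exists_quotient_of_isReductive {k : Type u} [Field k] [CharZero k]
    {G X : Over (Spec (CommRingCat.of k))} [GrpObj G] (hG : Red.IsReductive G) [IsAffine X.left]
    (a : AlgGrp.Action G X) :
    ∃ (Y : Over (Spec (CommRingCat.of k))) (φ : X ⟶ Y), IsAffine Y.left ∧ GoodAct a φ ∧
      (IsNoetherian X.left → IsNoetherian Y.left) ∧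
      (LocallyOfFiniteType X.hom → LocallyOfFiniteType Y.hom) := by
  obtain ⟨H, _, _, e, _, hLR, hft⟩ := exists_linearlyReductive_hopf hG
  obtain ⟨Y, φ, h₁, h₂, h₃, h₄⟩ := exists_affine_quotient a e hLR
  exact ⟨Y, φ, h₁, h₂, h₃, h₄ hft⟩

end Groth.Agent.AffQuot
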