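import Groth.Agent.AffQuot.Family
import Groth.Agent.AffQuot.Red
import Groth.Agent.DomLib.Basic
import Mathlib.AlgebraicGeometry.Morphisms.Finite
import Mathlib.RingTheory.Ideal.GoingUp

/-!
# Orbit families of closed actions with finite stabilisers are finite
-/

set_option autoImplicit false
set_option backward.isDefEq.respectTransparency false
set_option linter.style.haveILetI false

universe u

open CategoryTheory MonoidalCategory CartesianMonoidalCategory MonObj GrpObj AlgebraicGeometry

namespace Groth.Agent.AffQuot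

open Limits

/-- An integral morphism of affine schemes has no specialisations within its fibres. -/
theorem eq_of_specializes_of_isIntegralHom {Z P : Scheme.{u}} [IsAffine Z] [IsAffine P] (q : Z ⟶ P)
    [IsIntegralHom q] {z w : Z} (hs : z ⤳ w) (he : q z = q w) : z = w := by
  letI := q.appTop.hom.toAlgebra
  haveI : Algebra.IsIntegral Γ(P, ⊤) Γ(Z, ⊤) := ⟨q.isIntegral_app ⊤ (isAffineOpen_top P)⟩
  let zz : PrimeSpectrum Γ(Z, ⊤) := Z.isoSpec.hom z
  let ww : PrimeSpectrum Γ(Z, ⊤) := Z.isoSpec.hom w
  have hle : zz ≤ ww := (PrimeSpectrum.le_iff_specializes _ _).2 (hs.map Z.isoSpec.hom.continuous)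
  have hnat : ∀ y, PrimeSpectrum.comap (algebraMap Γ(P, ⊤) Γ(Z, ⊤)) (Z.isoSpec.hom y) = P.isoSpec.hom (q y) := by
    intro y
    show (Spec.map q.appTop) (Z.toSpecΓ y) = P.toSpecΓ (q y)
    rw [← Scheme.Hom.comp_apply, ← Scheme.toSpecΓ_naturality, Scheme.Hom.comp_apply]
  have heq : zz = ww := by
    by_contra hne
    have hlt : zz.asIdeal < ww.asIdeal := lt_of_le_of_ne hle fun h => hne (PrimeSpectrum.ext h)
    refine (Ideal.IsIntegral.comap_lt_comap (R := Γ(P, ⊤)) hlt).ne ?_
    exact congrArg PrimeSpectrum.asIdeal ((hnat z).trans ((congrArg P.isoSpec.hom he).trans (hnat w).symm))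
  exact Z.isoSpec.hom.homeomorph.injective heq

variable {k : Type u} [Field k] {G X Y : Over (Spec (CommRingCat.of k))} [GrpObj G] (a : AlgGrp.Action G X)
  (φ : X ⟶ Y) (hinv : GIT.IsInvariant a φ) [Smooth G.hom] [IsAffine G.left] [IsAffineHom φ.left]
  [LocallyOfFiniteType (GIT.PsiY a φ hinv)] [LocallyQuasiFinite (GIT.PsiY a φ hinv)]

theorem famF_props {V : Over (Spec (CommRingCat.of k))} [IsAffine V.left] (g : V ⟶ X) :
    IsAffine (famP φ g).left ∧ LocallyOfFiniteType (famF a φ hinv g).left ∧
      LocallyQuasiFinite (famF a φ hinv g).left := by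
  haveI : IsAffineHom (pullback.snd φ (g ≫ φ)).left :=
    MorphismProperty.of_isPullback ((IsPullback.of_hasPullback φ (g ≫ φ)).map (Over.forget _))
      (inferInstanceAs (IsAffineHom φ.left))
  obtain ⟨m, -, -, sq⟩ := famF_psiY a φ hinv g
  exact ⟨isAffine_of_isAffineHom (pullback.snd φ (g ≫ φ)).left,
    MorphismProperty.of_isPullback (P := @LocallyOfFiniteType) sq inferInstance,
    MorphismProperty.of_isPullback (P := @LocallyQuasiFinite) sq inferInstance⟩

/-- The orbit map of a geometric point is finite. -/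
theorem isFinite_famF_point (hc : GIT.IsClosedAction a) {T : Over (Spec (CommRingCat.of k))} (Ω : Type u) [Field Ω]
    [IsAlgClosed Ω] (eT : T.left ≅ Spec (CommRingCat.of Ω)) (g : T ⟶ X) :
    IsFinite (famF a φ hinv g).left := by
  haveI : IsAffine T.left := IsAffine.of_isIso eT.hom
  haveI : Subsingleton T.left := eT.hom.homeomorph.injective.subsingleton (β := PrimeSpectrum Ω)
  obtain ⟨_, _, _⟩ := famF_props a φ hinv g
  obtain ⟨Z, aZ, j, q, _, _, _, _, _, hjq, hact, hjx⟩ :=
    exists_equivariant_factorization (famA a φ hinv g) (famE φ g) (famF a φ hinv g) rfl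
  let f := famF a φ hinv g
  let O : Set (famP φ g).left := Set.range f.left
  have hO : IsClosed O := isClosed_range_famF a φ hinv g hc Ω eT
  let W : Set Z.left := (Set.range j.left)ᶜ
  have hWc : IsClosed W := j.left.isOpenEmbedding.isOpen_range.isClosed_compl
  have hst : Good.Stable aZ.act.left (snd G Z).left (Set.range j.left) := by
    have := stable_orbit (a := aZ) (lift (1 : T ⟶ G) (𝟙 T) ≫ j)
    rwa [hjx] at this
  haveI : IsDominant j.left := inferInstance
  have hfj : ∀ u, q.left (j.left u) = f.left u := fun u => by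
    rw [← Scheme.Hom.comp_apply, ← Over.comp_left, hjq]
  have hqO : ∀ z, q.left z ∈ O := fun z => by
    refine closure_minimal ?_ (hO.preimage q.left.continuous) (j.left.denseRange z)
    rintro _ ⟨u, rfl⟩
    exact ⟨u, (hfj u).symm⟩
  have hW : W = ∅ := by
    by_contra hne
    obtain ⟨w₀, hw₀⟩ := Set.nonempty_iff_ne_empty.2 hne
    have hqW : Good.Stable (famA a φ hinv g).act.left (snd G (famP φ g)).left (q.left '' W) :=
      stable_image hact (stable_compl hst)
    obtain ⟨u₀, hu₀⟩ := hqO w₀
    have hOW : O ⊆ q.left '' W := range_subset_of_stable (famE φ g) hqW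
      (show f.left u₀ ∈ q.left '' W from hu₀ ▸ ⟨w₀, hw₀, rfl⟩)
    obtain ⟨p, hpO, hmax⟩ := exists_maximal_point hO ⟨_, hqO w₀⟩
    obtain ⟨w, hw, rfl⟩ := hOW hpO
    obtain ⟨u, hu⟩ := DomLib.exists_specializes j.left (j.left.denseRange w)
    exact hw ⟨u, eq_of_specializes_of_isIntegralHom q.left hu
      (hmax _ (hqO _) (hu.map q.left.continuous))⟩
  haveI : Surjective j.left := ⟨fun z => Classical.byContradiction fun h => (Set.eq_empty_iff_forall_notMem.1 hW z) h⟩
  haveI : IsIso j.left := by rw [isIso_iff_isOpenImmersion_and_surjective]; exact ⟨inferInstance, inferInstance⟩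
  rw [IsFinite.iff_isIntegralHom_and_locallyOfFiniteType]
  exact ⟨by rw [← hjq, Over.comp_left]; infer_instance, inferInstance⟩

/-- The orbit map of a family over an affine scheme is finite, for a linearly reductive group. -/
theorem isFinite_famF {H : Type u} [CommRing H] [HopfAlgebra k H] (eG : CoactBr.sp k H ≅ G) [IsMonHom eG.hom]
    (hH : HopfRep.IsLinearlyReductive k H) (hc : GIT.IsClosedAction a)
    {V : Over (Spec (CommRingCat.of k))} [IsAffine V.left] (g : V ⟶ X) : IsFinite (famF a φ hinv g).left := by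
  obtain ⟨_, _, _⟩ := famF_props a φ hinv g
  obtain ⟨Z, aZ, j, q, _, _, _, _, _, hjq, hact, hjx⟩ :=
    exists_equivariant_factorization (famA a φ hinv g) (famE φ g) (famF a φ hinv g) rfl
  let x : V ⟶ Z := lift (1 : V ⟶ G) (𝟙 V) ≫ j
  let qV : Z ⟶ V := q ≫ pullback.snd φ (g ≫ φ)
  have hjqV : j ≫ qV = snd G V := by rw [← Category.assoc, hjq, famF_snd]
  have hxqV : x ≫ qV = 𝟙 V := by rw [Category.assoc, hjqV, lift_snd]
  have hqVinv : GIT.IsInvariant aZ qV := by
    show aZ.act ≫ q ≫ _ = snd G Z ≫ q ≫ _
    rw [reassoc_of% hact, EqInt.baseChange_invariant a φ hinv (g ≫ φ), ← Category.assoc, whiskerLeft_snd,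
      Category.assoc]
  -- the good quotient is the projection
  obtain ⟨Q, ψ, _, hψ, -, -⟩ := exists_affine_quotient aZ eG hH
  have hcat := isCatQuot_of_goodAct hψ
  obtain ⟨m, hm, -⟩ := hcat.2 V qV hqVinv
  let s : V ⟶ Q := x ≫ ψ
  have hsm : s ≫ m = 𝟙 V := by rw [Category.assoc, hm, hxqV]
  have hψs : j ≫ ψ = snd G V ≫ s := by
    conv_lhs => rw [← hjx, Category.assoc, hcat.1, ← Category.assoc, whiskerLeft_snd, Category.assoc]
  have hms : m ≫ s = 𝟙 Q := by
    refine (hcat.2 Q ψ hcat.1).unique ?_ (Category.comp_id _)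
    show ψ ≫ m ≫ s = ψ
    rw [reassoc_of% hm]
    exact Over.OverMorphism.ext (eq_of_isSchemeTheoreticallyDominant j.left (by
      rw [← Over.comp_left, ← Over.comp_left, hψs, reassoc_of% hjqV]))
  haveI : IsIso s := ⟨m, hsm, hms⟩
  have hgood : GoodAct aZ qV :=
    goodAct_baseChange hψ (𝟙 Z) qV s
      (IsPullback.of_horiz_isIso ⟨by
        rw [Category.id_comp]
        exact ((congrArg (· ≫ s) hm.symm).trans ((Category.assoc _ _ _).trans
          ((congrArg (ψ ≫ ·) hms).trans (Category.comp_id _)))).symm⟩)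
      aZ (by simp) hqVinv
  have hst : Good.Stable aZ.act.left (snd G Z).left (Set.range j.left) := by
    have := stable_orbit (a := aZ) x
    rwa [hjx] at this
  -- every point lies in the family
  haveI : Surjective j.left := ⟨fun w => by
    by_contra hw
    let v := qV.left w
    let K : Type u := V.left.residueField v
    let Ω := AlgebraicClosure K
    let pt : Spec (CommRingCat.of Ω) ⟶ V.left :=
      Spec.map (CommRingCat.ofHom (algebraMap K Ω)) ≫ V.left.fromSpecResidueField v
    let T : Over (Spec (CommRingCat.of k)) := Over.mk (pt ≫ V.hom)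
    let t : T ⟶ V := Over.homMk pt
    haveI : Subsingleton T.left := inferInstanceAs (Subsingleton (PrimeSpectrum Ω))
    obtain ⟨t₀⟩ : Nonempty T.left := inferInstanceAs (Nonempty (PrimeSpectrum Ω))
    let aT := EqInt.baseChange aZ qV hqVinv t
    let pr : pullback qV t ⟶ Z := pullback.fst qV t
    have hpr : aT.act ≫ pr = (G ◁ pr) ≫ aZ.act := EqInt.baseChange_fst aZ qV hqVinv t
    have hTinv : GIT.IsInvariant aT (pullback.snd qV t) := EqInt.baseChange_invariant aZ qV hqVinv t
    have hgT : GoodAct aT (pullback.snd qV t) :=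
      goodAct_baseChange hgood pr _ t (IsPullback.of_hasPullback qV t) aT hpr hTinv
    let eT : T ⟶ pullback qV t := pullback.lift (t ≫ x) (𝟙 T) (by
      rw [Category.assoc, hxqV, Category.comp_id, Category.id_comp])
    let o := (G ◁ eT) ≫ aT.act
    have hopr : o ≫ pr = (G ◁ t) ≫ j := by
      rw [Category.assoc, hpr, ← whiskerLeft_comp_assoc, pullback.lift_fst, whiskerLeft_comp_assoc, hjx]
    have hosnd : o ≫ pullback.snd qV t = snd G T := by
      rw [Category.assoc, hTinv, ← Category.assoc, whiskerLeft_snd, Category.assoc, pullback.lift_snd,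
        Category.comp_id]
    haveI : IsFinite (famF a φ hinv (t ≫ g)).left := isFinite_famF_point a φ hinv hc Ω (Iso.refl _) (t ≫ g)
    let kT : pullback qV t ⟶ famP φ (t ≫ g) := pullback.lift (pr ≫ q ≫ pullback.fst φ (g ≫ φ))
      (pullback.snd qV t) (by
        simp only [Category.assoc, pullback.condition]
        rw [← reassoc_of% (pullback.condition (f := qV) (g := t))]
        simp only [qV, pr, Category.assoc])
    have hok : o ≫ kT = famF a φ hinv (t ≫ g) := by
      apply pullback.hom_ext
      · rw [Category.assoc, pullback.lift_fst, famF_fst, reassoc_of% hopr, reassoc_of% hjq, famF_fst,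
          whiskerLeft_comp_assoc]
      · rw [Category.assoc, pullback.lift_snd, famF_snd, hosnd]
    haveI : IsAffineHom pr.left := MorphismProperty.of_isPullback
      ((IsPullback.of_hasPullback qV t).map (Over.forget _)).flip
      (inferInstanceAs (IsAffineHom t.left))
    haveI : IsAffine (pullback qV t).left := isAffine_of_isAffineHom pr.left
    haveI : IsFinite (o.left ≫ kT.left) := by rw [← Over.comp_left, hok]; infer_instance
    haveI : IsFinite o.left := IsFinite.of_comp o.left kT.left
    let WT : Set (pullback qV t).left := pr.left ⁻¹' (Set.range j.left)ᶜ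
    have hWT : IsClosed WT := j.left.isOpenEmbedding.isOpen_range.isClosed_compl.preimage pr.left.continuous
    let B : Bool → Set (pullback qV t).left := fun b => Bool.rec WT (Set.range o.left) b
    have he : ⋂ b, B b = ∅ := by
      rw [Set.eq_empty_iff_forall_notMem]
      intro z hz
      obtain ⟨u, hu⟩ := (Set.mem_iInter.1 hz true : z ∈ Set.range o.left)
      refine (Set.mem_iInter.1 hz false : z ∈ WT) ⟨(G ◁ t).left u, ?_⟩
      rw [← hu, ← Scheme.Hom.comp_apply, ← Over.comp_left, ← hopr, Over.comp_left, Scheme.Hom.comp_apply]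
    have h0 := hgT.iInter_image_eq_empty (W := B)
      (by rintro (_ | _); exacts [hWT, o.left.isClosedMap.isClosed_range])
      (by rintro (_ | _); exacts [stable_preimage hpr (stable_compl hst), stable_orbit eT]) he
    have hpt : t.left t₀ = v := Scheme.fromSpecResidueField_apply v _
    obtain ⟨z, hz₁, -⟩ := Scheme.exists_preimage_of_isPullback
      ((IsPullback.of_hasPullback qV t).map (Over.forget _)) w t₀ hpt.symm
    have : t₀ ∈ ⋂ b, (pullback.snd qV t).left '' B b := Set.mem_iInter.2 (by
      rintro (_ | _)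
      · exact ⟨z, fun h => hw (hz₁ ▸ h), Subsingleton.elim _ _⟩
      · exact ⟨o.left ((lift (1 : T ⟶ G) (𝟙 T)).left t₀), ⟨_, rfl⟩, Subsingleton.elim _ _⟩)
    rw [h0] at this
    exact this⟩
  haveI : IsIso j.left := by rw [isIso_iff_isOpenImmersion_and_surjective]; exact ⟨inferInstance, inferInstance⟩
  rw [IsFinite.iff_isIntegralHom_and_locallyOfFiniteType]
  exact ⟨by rw [← hjq, Over.comp_left]; infer_instance, inferInstance⟩

include hinv in
/-- The graph of a closed action with finite stabilisers over an affine morphism is finite. -/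
theorem isFinite_PsiY {H : Type u} [CommRing H] [HopfAlgebra k H] (eG : CoactBr.sp k H ≅ G) [IsMonHom eG.hom]
    (hH : HopfRep.IsLinearlyReductive k H) (hc : GIT.IsClosedAction a) : IsFinite (GIT.PsiY a φ hinv) := by
  refine IsZariskiLocalAtTarget.of_openCover
    (X.left.affineCover.pullback₁ (Limits.pullback.snd φ.left φ.left)) fun i => ?_
  let V : Over (Spec (CommRingCat.of k)) := Over.mk (X.left.affineCover.f i ≫ X.hom)
  haveI : IsAffine V.left := inferInstanceAs (IsAffine (X.left.affineCover.X i))
  let g : V ⟶ X := Over.homMk (X.left.affineCover.f i)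
  obtain ⟨m, -, hm, sq⟩ := famF_psiY a φ hinv g
  let e := hm.isoPullback
  have sq' : IsPullback (G ◁ g).left ((famF a φ hinv g).left ≫ e.hom) (GIT.PsiY a φ hinv)
      (Limits.pullback.fst (Limits.pullback.snd φ.left φ.left) g.left) :=
    IsPullback.of_iso sq (Iso.refl _) (Iso.refl _) e (Iso.refl _) (by simp) (by simp) (by simp)
      (by simp [e, hm.isoPullback_hom_fst])
  haveI := isFinite_famF a φ hinv eG hH hc g
  show IsFinite (Limits.pullback.snd (GIT.PsiY a φ hinv) (Limits.pullback.fst (Limits.pullback.snd φ.left φ.left) g.left))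
  rw [← sq'.isoPullback_inv_snd]
  infer_instance

end Groth.Agent.AffQuot
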