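import Groth.Agent.AffQuot.Datum
import Mathlib.AlgebraicGeometry.PullbackCarrier
import Mathlib.AlgebraicGeometry.AffineScheme
import Mathlib.AlgebraicGeometry.Pullbacks
import Mathlib.AlgebraicGeometry.Morphisms.UnderlyingMap

/-!
# Morphisms with Reynolds charts

`Good φ σ π`: `φ` coequalises the pair `σ, π : T ⟶ X` and over every affine scheme mapping to the target it is
modelled by a Reynolds datum.  Such a morphism is surjective, maps closed stable sets onto closed sets, separates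
them, is a categorical quotient of the pair among all schemes, and the property is stable under base change.
-/

set_option autoImplicit false
set_option backward.isDefEq.respectTransparency false

universe u

open CategoryTheory CategoryTheory.Limits AlgebraicGeometry TensorProduct TopologicalSpace

namespace Groth.Agent.AffQuot

variable {X Y T : Scheme.{u}} (φ : X ⟶ Y) (σ π : T ⟶ X)

/-- A model of the pair over an affine scheme mapping to the target. -/
structure Chart (C : CommRingCat.{u}) (i : Spec C ⟶ Y) where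
  R : Type u
  T' : Type u
  [crR : CommRing R]
  [crT : CommRing T']
  [algR : Algebra C R]
  [algT : Algebra C T']
  D : Datum C R T'
  j : Spec (CommRingCat.of R) ⟶ X
  hj : IsPullback j (Spec.map (CommRingCat.ofHom (algebraMap C R))) φ i
  l : Spec (CommRingCat.of T') ⟶ T
  hl : IsPullback l (Spec.map (CommRingCat.ofHom (algebraMap C T'))) (π ≫ φ) i
  hσ : Spec.map (CommRingCat.ofHom D.σ.toRingHom) ≫ j = l ≫ σ
  hπ : Spec.map (CommRingCat.ofHom D.π.toRingHom) ≫ j = l ≫ π

attribute [instance] Chart.crR Chart.crT Chart.algR Chart.algT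

/-- The morphism has Reynolds charts over all affine schemes mapping to the target. -/
structure Good : Prop where
  inv : σ ≫ φ = π ≫ φ
  chart : ∀ (C : CommRingCat.{u}) (i : Spec C ⟶ Y), Nonempty (Chart φ σ π C i)

variable {φ σ π}

lemma spec_map_algHom {C : CommRingCat.{u}} {R S : Type u} [CommRing R] [CommRing S] [Algebra C R] [Algebra C S]
    (f : R →ₐ[C] S) :
    Spec.map (CommRingCat.ofHom f.toRingHom) ≫ Spec.map (CommRingCat.ofHom (algebraMap C R)) =
      Spec.map (CommRingCat.ofHom (algebraMap C S)) := by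
  rw [← Spec.map_comp, ← CommRingCat.ofHom_comp]
  congr 2
  exact f.comp_algebraMap

/-- The model of a pair over an affine base, from a datum. -/
theorem good_of_datum {C : Type u} [CommRing C] {R T' : Type u} [CommRing R] [CommRing T'] [Algebra C R] [Algebra C T']
    (D : Datum C R T') {T₀ : Scheme.{u}} (e : T₀ ≅ Spec (CommRingCat.of T')) {σ₀ π₀ : T₀ ⟶ Spec (CommRingCat.of R)}
    (hσ : σ₀ = e.hom ≫ Spec.map (CommRingCat.ofHom D.σ.toRingHom))
    (hπ : π₀ = e.hom ≫ Spec.map (CommRingCat.ofHom D.π.toRingHom)) :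
    Good (Spec.map (CommRingCat.ofHom (algebraMap C R))) σ₀ π₀ := by
  subst hσ hπ
  refine ⟨?_, fun C' i => ?_⟩
  · simp only [Category.assoc]
    have := spec_map_algHom (C := CommRingCat.of C) D.σ
    have := spec_map_algHom (C := CommRingCat.of C) D.π
    simp_all
  obtain ⟨f, rfl⟩ := Spec.map_surjective i
  letI : Algebra C C' := f.hom.toAlgebra
  have sq : ∀ (S : Type u) [CommRing S] [Algebra C S],
      IsPullback (Spec.map (CommRingCat.ofHom (Algebra.TensorProduct.includeRight : S →ₐ[C] C' ⊗[C] S).toRingHom))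
        (Spec.map (CommRingCat.ofHom (algebraMap C' (C' ⊗[C] S))))
        (Spec.map (CommRingCat.ofHom (algebraMap C S))) (Spec.map f) := fun S _ _ =>
    AlgebraicGeometry.isPullback_SpecMap_of_isPushout _ _ _ _
      (CommRingCat.isPushout_tensorProduct C C' S).flip
  refine ⟨{ R := C' ⊗[C] R, T' := C' ⊗[C] T', D := D.baseChange C',
            j := Spec.map (CommRingCat.ofHom (Algebra.TensorProduct.includeRight : R →ₐ[C] C' ⊗[C] R).toRingHom),
            hj := sq R,
            l := Spec.map (CommRingCat.ofHom (Algebra.TensorProduct.includeRight : T' →ₐ[C] C' ⊗[C] T').toRingHom) ≫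
              e.inv,
            hl := ?_, hσ := ?_, hπ := ?_ }⟩
  · have := spec_map_algHom (C := CommRingCat.of C) D.π
    refine IsPullback.of_iso (sq T') (Iso.refl _) e.symm (Iso.refl _) (Iso.refl _) ?_ ?_ ?_ ?_
    · simp
    · simp
    · simp only [Iso.symm_hom, Iso.refl_hom, Category.comp_id, Category.assoc, Iso.inv_hom_id_assoc]
      exact this.symm
    · simp
  · simp only [Category.assoc, Iso.inv_hom_id_assoc]
    rw [← Spec.map_comp, ← Spec.map_comp]
    congr 1
  · simp only [Category.assoc, Iso.inv_hom_id_assoc]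
    rw [← Spec.map_comp, ← Spec.map_comp]
    congr 1

namespace Good

variable (h : Good φ σ π)

/-- Base change along an arbitrary morphism to the target. -/
theorem of_isPullback (h : Good φ σ π) {X' Y' T₁ : Scheme.{u}} {φ' : X' ⟶ Y'} {σ' π' : T₁ ⟶ X'} {pr : X' ⟶ X} {q : T₁ ⟶ T}
    {g : Y' ⟶ Y} (hpb : IsPullback pr φ' φ g) (hq : IsPullback q (π' ≫ φ') (π ≫ φ) g)
    (hσ : σ' ≫ pr = q ≫ σ) (hπ : π' ≫ pr = q ≫ π) (hinv : σ' ≫ φ' = π' ≫ φ') : Good φ' σ' π' := by
  refine ⟨hinv, fun C i => ?_⟩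
  obtain ⟨c⟩ := h.chart C (i ≫ g)
  let j' := hpb.lift c.j (Spec.map (CommRingCat.ofHom (algebraMap C c.R)) ≫ i) (by
    rw [Category.assoc]; exact c.hj.w)
  let l' := hq.lift c.l (Spec.map (CommRingCat.ofHom (algebraMap C c.T')) ≫ i) (by
    rw [Category.assoc]; exact c.hl.w)
  have hjf : j' ≫ pr = c.j := hpb.lift_fst _ _ _
  have hjs : j' ≫ φ' = _ := hpb.lift_snd _ _ _
  have hlf : l' ≫ q = c.l := hq.lift_fst _ _ _
  have hls : l' ≫ π' ≫ φ' = _ := hq.lift_snd _ _ _
  refine ⟨{ R := c.R, T' := c.T', D := c.D, j := j', hj := ?_, l := l', hl := ?_, hσ := ?_, hπ := ?_ }⟩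
  · exact IsPullback.of_right (by rw [hjf]; exact c.hj) hjs hpb
  · exact IsPullback.of_right (by rw [hlf]; exact c.hl) hls hq
  · apply hpb.hom_ext
    · rw [Category.assoc, hjf, c.hσ, Category.assoc, hσ, ← Category.assoc, hlf]
    · rw [Category.assoc, hjs, reassoc_of% (spec_map_algHom c.D.σ), Category.assoc, hinv, hls]
  · apply hpb.hom_ext
    · rw [Category.assoc, hjf, c.hπ, Category.assoc, hπ, ← Category.assoc, hlf]
    · rw [Category.assoc, hjs, reassoc_of% (spec_map_algHom c.D.π), Category.assoc, hls]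

/-- A set is stable if its preimage under `π` is contained in the one under `σ`. -/
def Stable (σ π : T ⟶ X) (W : Set X) : Prop := π ⁻¹' W ⊆ σ ⁻¹' W

lemma stable_preimage {C : CommRingCat.{u}} {i : Spec C ⟶ Y} (c : Chart φ σ π C i) {W : Set X}
    (hs : Stable σ π W) : c.D.Stable (c.j ⁻¹' W) := by
  intro q hq
  have hπ : c.j (Spec.map (CommRingCat.ofHom c.D.π.toRingHom) q) = π (c.l q) := by
    rw [← Scheme.Hom.comp_apply, c.hπ, Scheme.Hom.comp_apply]
  have hσ : c.j (Spec.map (CommRingCat.ofHom c.D.σ.toRingHom) q) = σ (c.l q) := by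
    rw [← Scheme.Hom.comp_apply, c.hσ, Scheme.Hom.comp_apply]
  show c.j _ ∈ W
  erw [hσ]
  refine hs ?_
  show π (c.l q) ∈ W
  rw [← hπ]
  exact hq

lemma image_preimage {C : CommRingCat.{u}} {i : Spec C ⟶ Y} (c : Chart φ σ π C i) (W : Set X) :
    PrimeSpectrum.comap (algebraMap C c.R) '' (c.j ⁻¹' W) = i ⁻¹' (φ '' W) :=
  Scheme.image_preimage_eq_of_isPullback c.hj W

include h in
theorem surjective : Function.Surjective φ := fun y => by
  obtain ⟨U, hU, hyU, -⟩ := exists_isAffineOpen_mem_and_subset (x := y) (U := ⊤) trivial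
  obtain ⟨c⟩ := h.chart _ hU.fromSpec
  obtain ⟨p, hp⟩ : y ∈ Set.range hU.fromSpec := by rw [hU.range_fromSpec]; exact hyU
  obtain ⟨q, hq⟩ := c.D.surjective_comap p
  refine ⟨c.j q, ?_⟩
  rw [← Scheme.Hom.comp_apply, c.hj.w, Scheme.Hom.comp_apply, ← hp]
  exact congrArg hU.fromSpec hq

include h in
theorem isClosed_image {W : Set X} (hW : IsClosed W) (hs : Stable σ π W) : IsClosed (φ '' W) := by
  rw [← isOpen_compl_iff, isOpen_iff_forall_mem_open]
  intro y hy
  obtain ⟨U, hU, hyU, -⟩ := exists_isAffineOpen_mem_and_subset (x := y) (U := ⊤) trivial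
  obtain ⟨c⟩ := h.chart _ hU.fromSpec
  have hc : IsClosed (hU.fromSpec ⁻¹' (φ '' W)) := by
    rw [← image_preimage c]
    exact c.D.isClosed_image (hW.preimage c.j.continuous) (stable_preimage c hs)
  refine ⟨hU.fromSpec '' (hU.fromSpec ⁻¹' (φ '' W))ᶜ, ?_, hU.fromSpec.isOpenEmbedding.isOpenMap _ hc.isOpen_compl, ?_⟩
  · rintro _ ⟨p, hp, rfl⟩
    exact hp
  · obtain ⟨p, rfl⟩ : y ∈ Set.range hU.fromSpec := by rw [hU.range_fromSpec]; exact hyU
    exact ⟨p, hy, rfl⟩

include h in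
theorem iInter_image_eq_empty {ι : Type*} {W : ι → Set X} (hW : ∀ i, IsClosed (W i))
    (hs : ∀ i, Stable σ π (W i)) (he : ⋂ i, W i = ∅) : ⋂ i, φ '' W i = ∅ := by
  rw [Set.eq_empty_iff_forall_notMem]
  intro y hy
  obtain ⟨U, hU, hyU, -⟩ := exists_isAffineOpen_mem_and_subset (x := y) (U := ⊤) trivial
  obtain ⟨c⟩ := h.chart _ hU.fromSpec
  obtain ⟨p, rfl⟩ : y ∈ Set.range hU.fromSpec := by rw [hU.range_fromSpec]; exact hyU
  have hp : p ∈ ⋂ i, PrimeSpectrum.comap (algebraMap _ c.R) '' (c.j ⁻¹' W i) :=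
    Set.mem_iInter.2 fun i => by rw [image_preimage c]; exact Set.mem_iInter.1 hy i
  rw [c.D.iInter_image_eq_empty (fun i => (hW i).preimage c.j.continuous) (fun i => stable_preimage c (hs i))
    (by rw [← Set.preimage_iInter, he, Set.preimage_empty])] at hp
  exact hp

include h in
theorem isQuotientMap : Topology.IsQuotientMap φ := by
  refine Topology.isQuotientMap_iff_isClosed.2 ⟨h.surjective, fun s => ⟨fun hs => hs.preimage φ.continuous, fun hs => ?_⟩⟩
  rw [← Set.image_preimage_eq s h.surjective]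
  refine h.isClosed_image hs fun t ht => ?_
  show φ (σ t) ∈ s
  rw [← Scheme.Hom.comp_apply, h.inv, Scheme.Hom.comp_apply]
  exact ht

include h in
/-- The morphism is an epimorphism among schemes. -/
theorem epi_hom {Z : Scheme.{u}} {χ χ' : Y ⟶ Z} (e : φ ≫ χ = φ ≫ χ') : χ = χ' := by
  refine Scheme.hom_ext_of_forall _ _ fun y => ?_
  have hy : χ y = χ' y := by
    obtain ⟨x, rfl⟩ := h.surjective y
    rw [← Scheme.Hom.comp_apply, e, Scheme.Hom.comp_apply]
  obtain ⟨V, hV, hyV, -⟩ := exists_isAffineOpen_mem_and_subset (x := χ y) (U := ⊤) trivial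
  obtain ⟨U, hU, hyU, hUV⟩ := exists_isAffineOpen_mem_and_subset (x := y) (U := χ ⁻¹ᵁ V ⊓ χ' ⁻¹ᵁ V)
    ⟨hyV, show χ' y ∈ V by rw [← hy]; exact hyV⟩
  refine ⟨U, hyU, ?_⟩
  obtain ⟨c⟩ := h.chart _ hU.fromSpec
  have hr : ∀ ξ : Y ⟶ Z, U ≤ ξ ⁻¹ᵁ V → Set.range (hU.fromSpec ≫ ξ) ⊆ Set.range hV.fromSpec := by
    intro ξ hξ
    rw [hV.range_fromSpec]
    rintro _ ⟨p, rfl⟩
    refine hξ ?_
    rw [← SetLike.mem_coe, ← hU.range_fromSpec]
    exact ⟨p, rfl⟩
  obtain ⟨a, ha⟩ : ∃ a, a ≫ hV.fromSpec = hU.fromSpec ≫ χ :=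
    ⟨_, IsOpenImmersion.lift_fac _ _ (hr χ (hUV.trans inf_le_left))⟩
  obtain ⟨a', ha'⟩ : ∃ a, a ≫ hV.fromSpec = hU.fromSpec ≫ χ' :=
    ⟨_, IsOpenImmersion.lift_fac _ _ (hr χ' (hUV.trans inf_le_right))⟩
  obtain ⟨b, rfl⟩ := Spec.map_surjective a
  obtain ⟨b', rfl⟩ := Spec.map_surjective a'
  have : b = b' := by
    have e' : Spec.map (CommRingCat.ofHom (algebraMap _ c.R)) ≫ Spec.map b =
        Spec.map (CommRingCat.ofHom (algebraMap _ c.R)) ≫ Spec.map b' := by
      rw [← cancel_mono hV.fromSpec, Category.assoc, Category.assoc, ha, ha', ← reassoc_of% c.hj.w,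
        ← reassoc_of% c.hj.w, e]
    rw [← Spec.map_comp, ← Spec.map_comp] at e'
    ext x
    exact c.D.injective congr($(Spec.map_injective e') x)
  subst this
  have e2 : hU.fromSpec ≫ χ = hU.fromSpec ≫ χ' := ha.symm.trans ha'
  rwa [← hU.isoSpec_inv_ι, Category.assoc, Category.assoc, cancel_epi] at e2

/-- A morphism to an affine scheme coequalising a chart descends. -/
lemma exists_desc_affine {C : CommRingCat.{u}} {i : Spec C ⟶ Y} (c : Chart φ σ π C i) {B : CommRingCat.{u}}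
    (ψ : Spec (CommRingCat.of c.R) ⟶ Spec B)
    (hψ : Spec.map (CommRingCat.ofHom c.D.σ.toRingHom) ≫ ψ = Spec.map (CommRingCat.ofHom c.D.π.toRingHom) ≫ ψ) :
    ∃ χ : Spec C ⟶ Spec B, Spec.map (CommRingCat.ofHom (algebraMap C c.R)) ≫ χ = ψ := by
  obtain ⟨b, rfl⟩ := Spec.map_surjective ψ
  rw [← Spec.map_comp, ← Spec.map_comp] at hψ
  have hb : ∀ x, algebraMap C c.R (c.D.E (b x)) = b x := fun x =>
    c.D.eq_algebraMap congr($(Spec.map_injective hψ) x)
  let γ : B →+* C :=
    { toFun := fun x => c.D.E (b x)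
      map_one' := c.D.injective (by rw [hb, map_one, map_one])
      map_mul' := fun x y => c.D.injective (by rw [hb, map_mul, map_mul, hb, hb])
      map_zero' := c.D.injective (by rw [hb, map_zero, map_zero])
      map_add' := fun x y => c.D.injective (by rw [hb, map_add, map_add, hb, hb]) }
  refine ⟨Spec.map (CommRingCat.ofHom γ), ?_⟩
  rw [← Spec.map_comp]
  congr 1
  ext x
  exact hb x

include h in
/-- The morphism is a categorical quotient of the pair among all schemes. -/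
theorem existsUnique_desc {Z : Scheme.{u}} (ψ : X ⟶ Z) (hψ : σ ≫ ψ = π ≫ ψ) : ∃! χ : Y ⟶ Z, φ ≫ χ = ψ := by
  classical
  let W : Z.affineOpens → Set X := fun V => (ψ ⁻¹' (V.1 : Set Z))ᶜ
  have hW : ∀ V, IsClosed (W V) := fun V => (V.1.isOpen.preimage ψ.continuous).isClosed_compl
  have hs : ∀ V, Stable σ π (W V) := fun V t ht hσt => ht (by
    show ψ (π t) ∈ (V.1 : Set Z)
    rw [← Scheme.Hom.comp_apply, ← hψ, Scheme.Hom.comp_apply]
    exact hσt)
  have he : ⋂ V, W V = ∅ := by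
    rw [Set.eq_empty_iff_forall_notMem]
    intro x hx
    obtain ⟨V, hV, hxV, -⟩ := exists_isAffineOpen_mem_and_subset (x := ψ x) (U := ⊤) trivial
    exact Set.mem_iInter.1 hx ⟨V, hV⟩ hxV
  have hsel : ∀ y : Y, ∃ (V : Z.affineOpens) (U : Y.affineOpens), y ∈ U.1 ∧ φ ⁻¹' (U.1 : Set Y) ⊆ ψ ⁻¹' (V.1 : Set Z) := by
    intro y
    have hy : y ∉ ⋂ V, φ '' W V := by rw [h.iInter_image_eq_empty hW hs he]; exact id
    rw [Set.mem_iInter] at hy
    push Not at hy
    obtain ⟨V, hV⟩ := hy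
    obtain ⟨U, hU, hyU, hUV⟩ := exists_isAffineOpen_mem_and_subset (x := y)
      (U := ⟨(φ '' W V)ᶜ, (h.isClosed_image (hW V) (hs V)).isOpen_compl⟩) hV
    refine ⟨V, ⟨U, hU⟩, hyU, fun x hx => ?_⟩
    by_contra hc
    exact hUV hx ⟨x, hc, rfl⟩
  choose V U hyU hUV using hsel
  let 𝒰 : Y.OpenCover :=
    { I₀ := Y, X := fun y => Spec Γ(Y, (U y).1), f := fun y => (U y).2.fromSpec
      mem₀ := by
        rw [Scheme.presieve₀_mem_precoverage_iff]
        exact ⟨fun y => ⟨y, (U y).2.range_fromSpec.ge (hyU y)⟩, inferInstance⟩ }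
  have hloc : ∀ y, ∃ (c : Chart φ σ π _ (𝒰.f y)) (χ : 𝒰.X y ⟶ Z),
      Spec.map (CommRingCat.ofHom (algebraMap _ c.R)) ≫ χ = c.j ≫ ψ := by
    intro y
    obtain ⟨c⟩ := h.chart _ (𝒰.f y)
    have hr : Set.range (c.j ≫ ψ) ⊆ Set.range (V y).2.fromSpec := by
      rw [(V y).2.range_fromSpec]
      rintro _ ⟨q, rfl⟩
      refine hUV y ?_
      show φ (c.j q) ∈ (U y).1
      rw [← Scheme.Hom.comp_apply, c.hj.w, Scheme.Hom.comp_apply, ← SetLike.mem_coe, ← (U y).2.range_fromSpec]
      exact ⟨_, rfl⟩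
    obtain ⟨ψ₀, hψ₀⟩ : ∃ a, a ≫ (V y).2.fromSpec = c.j ≫ ψ := ⟨_, IsOpenImmersion.lift_fac _ _ hr⟩
    obtain ⟨χ, hχ⟩ := exists_desc_affine c ψ₀ (by
      rw [← cancel_mono (V y).2.fromSpec, Category.assoc, Category.assoc, hψ₀, reassoc_of% c.hσ, hψ,
        reassoc_of% c.hπ])
    exact ⟨c, χ ≫ (V y).2.fromSpec, by rw [reassoc_of% hχ, hψ₀]⟩
  choose c χ hχ using hloc
  have hchart : ∀ y, pullback.snd φ (𝒰.f y) ≫ χ y = pullback.fst φ (𝒰.f y) ≫ ψ := by
    intro y
    rw [← cancel_epi (c y).hj.isoPullback.hom, IsPullback.isoPullback_hom_snd_assoc,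
      IsPullback.isoPullback_hom_fst_assoc, hχ]
  have hglue : ∀ a b, pullback.fst (𝒰.f a) (𝒰.f b) ≫ χ a = pullback.snd _ _ ≫ χ b := by
    intro a b
    let p := pullback.fst (𝒰.f a) (𝒰.f b) ≫ 𝒰.f a
    let Tp := pullback (π ≫ φ) p
    have wσ : (pullback.fst (π ≫ φ) p ≫ σ) ≫ φ = pullback.snd (π ≫ φ) p ≫ p := by
      rw [Category.assoc, h.inv, pullback.condition]
    have wπ : (pullback.fst (π ≫ φ) p ≫ π) ≫ φ = pullback.snd (π ≫ φ) p ≫ p := by
      rw [Category.assoc, pullback.condition]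
    have hG : Good (pullback.snd φ p) (pullback.lift _ _ wσ) (pullback.lift _ _ wπ) :=
      h.of_isPullback (IsPullback.of_hasPullback φ p) (q := pullback.fst (π ≫ φ) p)
        (by rw [pullback.lift_snd]; exact IsPullback.of_hasPullback _ _)
        (pullback.lift_fst _ _ _) (pullback.lift_fst _ _ _) (by rw [pullback.lift_snd, pullback.lift_snd])
    apply hG.epi_hom
    let u : pullback φ p ⟶ pullback φ (𝒰.f a) :=
      pullback.lift (pullback.fst φ p) (pullback.snd φ p ≫ pullback.fst (𝒰.f a) (𝒰.f b))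
        (by rw [pullback.condition, Category.assoc])
    let v : pullback φ p ⟶ pullback φ (𝒰.f b) :=
      pullback.lift (pullback.fst φ p) (pullback.snd φ p ≫ pullback.snd (𝒰.f a) (𝒰.f b))
        (by rw [pullback.condition, Category.assoc]; exact congrArg (pullback.snd φ p ≫ ·) pullback.condition)
    calc pullback.snd φ p ≫ pullback.fst (𝒰.f a) (𝒰.f b) ≫ χ a
        = u ≫ pullback.snd φ (𝒰.f a) ≫ χ a := by rw [pullback.lift_snd_assoc, Category.assoc]
      _ = v ≫ pullback.snd φ (𝒰.f b) ≫ χ b := by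
          rw [hchart, hchart, pullback.lift_fst_assoc, pullback.lift_fst_assoc]
      _ = pullback.snd φ p ≫ pullback.snd (𝒰.f a) (𝒰.f b) ≫ χ b := by
          rw [pullback.lift_snd_assoc, Category.assoc]
  have hfac : φ ≫ 𝒰.glueMorphisms χ hglue = ψ := by
    refine Scheme.Cover.hom_ext (𝒰.pullback₁ φ) _ _ fun y => ?_
    show pullback.fst φ (𝒰.f y) ≫ φ ≫ 𝒰.glueMorphisms χ hglue = pullback.fst φ (𝒰.f y) ≫ ψ
    rw [pullback.condition_assoc, Scheme.Cover.ι_glueMorphisms, hchart]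
  exact ⟨_, hfac, fun χ' hχ' => h.epi_hom (hχ'.trans hfac.symm)⟩

include h in
/-- Every base change is a quotient map. -/
theorem universally_isQuotientMap :
    MorphismProperty.universally (topologically @Topology.IsQuotientMap) φ := by
  intro X' Y' pr g φ' hpb
  have hpb' : IsPullback pr φ' φ g := by
    first
      | exact hpb
      | exact hpb.flip
  let q := pullback.fst (π ≫ φ) g
  have wσ : (q ≫ σ) ≫ φ = pullback.snd (π ≫ φ) g ≫ g := by rw [Category.assoc, h.inv, pullback.condition]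
  have wπ : (q ≫ π) ≫ φ = pullback.snd (π ≫ φ) g ≫ g := by rw [Category.assoc, pullback.condition]
  have hG : Good φ' (hpb'.lift _ _ wσ) (hpb'.lift _ _ wπ) :=
    h.of_isPullback hpb' (q := q) (by rw [hpb'.lift_snd]; exact IsPullback.of_hasPullback _ _)
      (hpb'.lift_fst _ _ _) (hpb'.lift_fst _ _ _) (by rw [hpb'.lift_snd, hpb'.lift_snd])
  exact hG.isQuotientMap

end Good

end Groth.Agent.AffQuot
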