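import Groth.Agent.AffQuot.Good
import Groth.Agent.AffQuot.Bridge
import Groth.Agent.GITCat.UnivCat
import Groth.Agent.Comod.Reynolds
import Groth.Agent.FinHopf.GrpScheme
import Groth.Agent.InvFG.Trick
import Groth.Prelude.Def_W4bk4git07Quot
import Mathlib.AlgebraicGeometry.Morphisms.UniversallyInjective

/-!
# Affine quotients by linearly reductive groups
-/

set_option autoImplicit false
set_option backward.isDefEq.respectTransparency false
set_option linter.style.haveILetI false

universe u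

open CategoryTheory MonoidalCategory CartesianMonoidalCategory MonObj GrpObj AlgebraicGeometry
open scoped TensorProduct

namespace Groth.Agent.AffQuot

open Limits

section General

variable {S : Scheme.{u}} {G X Y : Over S} [GrpObj G] {a : AlgGrp.Action G X} {φ : X ⟶ Y}

/-- Goodness of the pair (action, projection). -/
abbrev GoodAct (a : AlgGrp.Action G X) (φ : X ⟶ Y) : Prop := Good φ.left a.act.left (snd G X).left

theorem goodAct_baseChange (h : GoodAct a φ) {X' Y' : Over S} (pr : X' ⟶ X) (φ' : X' ⟶ Y') (g : Y' ⟶ Y)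
    (hpb : IsPullback pr φ' φ g) (a' : AlgGrp.Action G X') (heq : a'.act ≫ pr = (G ◁ pr) ≫ a.act)
    (hinv : GIT.IsInvariant a' φ') : GoodAct a' φ' := by
  refine h.of_isPullback (hpb.map (Over.forget S)) (q := (G ◁ pr).left) ?_ ?_ ?_ hinv.left
  · exact (((Blanchard.isPullback_whiskerLeft G pr).map (Over.forget S)).flip.paste_vert (hpb.map (Over.forget S)))
  · exact congr($(heq).left)
  · exact congr($((whiskerLeft_snd G pr).symm).left)

theorem isCatQuot_of_goodAct (h : GoodAct a φ) : GIT.IsCatQuot a φ := by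
  refine ⟨Over.OverMorphism.ext (by rw [Over.comp_left, Over.comp_left]; exact h.inv), fun Z ψ hψ => ?_⟩
  obtain ⟨χ, hχ, huniq⟩ := h.existsUnique_desc ψ.left hψ.left
  have hw : χ ≫ Z.hom = Y.hom := h.epi_hom (by rw [reassoc_of% hχ, Over.w ψ, Over.w φ])
  refine ⟨Over.homMk χ hw, Over.OverMorphism.ext hχ, fun χ' hχ' => Over.OverMorphism.ext (huniq _ ?_)⟩
  show φ.left ≫ χ'.left = ψ.left
  rw [← Over.comp_left, hχ']

theorem isUnivCatQuot_of_goodAct (h : GoodAct a φ) : GIT.IsUnivCatQuot a φ :=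
  ⟨isCatQuot_of_goodAct h, fun _ _ pr φ' g _ hpb a' heq hinv =>
    isCatQuot_of_goodAct (goodAct_baseChange h pr φ' g hpb a' heq hinv)⟩

theorem stable_of_image_subset {W : Set X.left}
    (hW : a.act.left.base '' ((snd G X).left.base ⁻¹' W) ⊆ W) : Good.Stable a.act.left (snd G X).left W :=
  fun t ht => hW ⟨t, ht, rfl⟩

/-- The orbit of a point of a base change. -/
theorem stable_orbit {T : Over S} (x : T ⟶ X) :
    Good.Stable a.act.left (snd G X).left (Set.range ((G ◁ x) ≫ a.act).left) := by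
  rintro t ⟨u, hu⟩
  obtain ⟨w, hw₁, hw₂⟩ := Scheme.exists_preimage_of_isPullback
    ((Blanchard.isPullback_whiskerLeft G ((G ◁ x) ≫ a.act)).map (Over.forget S)) u t hu
  refine ⟨((α_ G G T).inv ≫ (μ[G] ▷ T)).left w, ?_⟩
  have e : (α_ G G T).inv ≫ (μ[G] ▷ T) ≫ (G ◁ x) ≫ a.act = (G ◁ ((G ◁ x) ≫ a.act)) ≫ a.act := by
    rw [← whisker_exchange_assoc, a.mul_act, ← associator_inv_naturality_right_assoc, Iso.inv_hom_id_assoc,
      MonoidalCategory.whiskerLeft_comp, Category.assoc]
  rw [← hw₂]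
  simp only [← Scheme.Hom.comp_apply, ← Over.comp_left, Category.assoc]
  rw [e]
  rfl

/-- For a closed action, the graph of a good quotient is surjective. -/
theorem surjective_PsiY (h : GoodAct a φ) (hinv : GIT.IsInvariant a φ) (hc : GIT.IsClosedAction a) :
    Function.Surjective (GIT.PsiY a φ hinv).base := by
  intro z
  let K : Type u := (pullback φ.left φ.left).residueField z
  let Ω := AlgebraicClosure K
  let pz : Spec (CommRingCat.of Ω) ⟶ pullback φ.left φ.left :=
    Spec.map (CommRingCat.ofHom (algebraMap K Ω)) ≫ (pullback φ.left φ.left).fromSpecResidueField z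
  let T : Over S := Over.mk (pz ≫ pullback.fst _ _ ≫ X.hom)
  let x₁ : T ⟶ X := Over.homMk (pz ≫ pullback.fst _ _) (Category.assoc _ _ _)
  let x₂ : T ⟶ X := Over.homMk (pz ≫ pullback.snd _ _) (by
    show (pz ≫ pullback.snd _ _) ≫ X.hom = pz ≫ pullback.fst _ _ ≫ X.hom
    rw [Category.assoc]; congr 1; rw [← Over.w φ, ← pullback.condition_assoc])
  have hx : x₁ ≫ φ = x₂ ≫ φ := Over.OverMorphism.ext (by
    show (pz ≫ pullback.fst _ _) ≫ φ.left = (pz ≫ pullback.snd _ _) ≫ φ.left
    exact (Category.assoc _ _ _).trans ((congrArg (pz ≫ ·) pullback.condition).trans (Category.assoc _ _ _).symm))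
  let g := x₁ ≫ φ
  let X' := Limits.pullback φ g
  let pr : X' ⟶ X := Limits.pullback.fst φ g
  let φ' : X' ⟶ T := Limits.pullback.snd φ g
  let a' := EqInt.baseChange a φ hinv g
  have heq : a'.act ≫ pr = (G ◁ pr) ≫ a.act := EqInt.baseChange_fst a φ hinv g
  have hinv' : GIT.IsInvariant a' φ' := EqInt.baseChange_invariant a φ hinv g
  have hg : GoodAct a' φ' := goodAct_baseChange h pr φ' g (IsPullback.of_hasPullback φ g) a' heq hinv'
  let j : X' ⟶ X ⊗ T := lift pr φ'
  haveI : Mono j := ⟨fun p q e => Limits.pullback.hom_ext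
    (by simpa [j] using congr($e ≫ fst X T)) (by simpa [j] using congr($e ≫ snd X T))⟩
  haveI : Mono j.left := Over.mono_left_of_mono j
  have key : ∀ (s : T ⟶ X') (f : T ⟶ X), s ≫ pr = f → s ≫ φ' = 𝟙 T →
      IsClosed (Set.range ((G ◁ s) ≫ a'.act).left) := by
    intro s f hs hs'
    have e : ((G ◁ s) ≫ a'.act) ≫ j = GIT.psi a f := by
      refine CartesianMonoidalCategory.hom_ext _ _ ?_ ?_
      · rw [Category.assoc, Category.assoc, lift_fst, heq, GIT.psi, lift_fst, ← whiskerLeft_comp_assoc, hs]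
      · rw [Category.assoc, Category.assoc, lift_snd, hinv', GIT.psi, lift_snd, ← Category.assoc, whiskerLeft_snd,
          Category.assoc, hs', Category.comp_id]
    have : Set.range ((G ◁ s) ≫ a'.act).left = j.left ⁻¹' Set.range (GIT.psi a f).left := by
      rw [← e, Over.comp_left]
      ext p
      refine ⟨?_, ?_⟩
      · rintro ⟨u, rfl⟩; exact ⟨u, Scheme.Hom.comp_apply _ _ _⟩
      · rintro ⟨u, hu⟩; exact ⟨u, j.left.injective ((Scheme.Hom.comp_apply _ _ _).symm.trans hu)⟩
    rw [this]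
    exact (hc Ω T (Iso.refl _) f).preimage j.left.continuous
  let s₁ : T ⟶ X' := Limits.pullback.lift x₁ (𝟙 T) (Category.id_comp _).symm
  let s₂ : T ⟶ X' := Limits.pullback.lift x₂ (𝟙 T) (hx.symm.trans (Category.id_comp _).symm)
  let o₁ := (G ◁ s₁) ≫ a'.act
  let o₂ := (G ◁ s₂) ≫ a'.act
  let W : Bool → Set X'.left := fun b => Bool.rec (Set.range o₁.left) (Set.range o₂.left) b
  have hmem : ∀ (s : T ⟶ X') (t : T.left), s.left t ∈ Set.range ((G ◁ s) ≫ a'.act).left := fun s t =>
    ⟨(lift (1 : T ⟶ G) (𝟙 T)).left t, by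
      rw [← Scheme.Hom.comp_apply, ← Over.comp_left, lift_whiskerLeft_assoc, Category.id_comp, GrpAct.one_smul']⟩
  haveI : Subsingleton T.left := inferInstanceAs (Subsingleton (PrimeSpectrum Ω))
  obtain ⟨t₀⟩ : Nonempty T.left := inferInstanceAs (Nonempty (PrimeSpectrum Ω))
  have hne : ¬ ⋂ b, W b = ∅ := fun he => by
    have h0 := hg.iInter_image_eq_empty (W := W)
      (by rintro (_ | _)
          exacts [key s₁ x₁ (Limits.pullback.lift_fst _ _ _) (Limits.pullback.lift_snd _ _ _),
            key s₂ x₂ (Limits.pullback.lift_fst _ _ _) (Limits.pullback.lift_snd _ _ _)])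
      (by rintro (_ | _); exacts [stable_orbit s₁, stable_orbit s₂]) he
    have : t₀ ∈ ⋂ b, φ'.left '' W b := Set.mem_iInter.2 (by
      rintro (_ | _)
      exacts [⟨_, hmem s₁ t₀, Subsingleton.elim _ _⟩, ⟨_, hmem s₂ t₀, Subsingleton.elim _ _⟩])
    rw [h0] at this
    exact this
  obtain ⟨p, hp⟩ := Set.nonempty_iff_ne_empty.2 hne
  obtain ⟨⟨u₁, hu₁⟩, ⟨u₂, hu₂⟩⟩ := And.intro (Set.mem_iInter.1 hp false) (Set.mem_iInter.1 hp true)
  obtain ⟨w, -, -⟩ := Scheme.exists_preimage_of_isPullback ((IsPullback.of_hasPullback o₁ o₂).map (Over.forget S))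
    u₁ u₂ (hu₁.trans hu₂.symm)
  let P := Limits.pullback o₁ o₂
  let c := Limits.pullback.fst o₁ o₂ ≫ snd G T
  have hc2 : Limits.pullback.snd o₁ o₂ ≫ snd G T = c := by
    have := congr($(Limits.pullback.condition (f := o₁) (g := o₂)) ≫ φ')
    have e : ∀ s : T ⟶ X', s ≫ φ' = 𝟙 T → ((G ◁ s) ≫ a'.act) ≫ φ' = snd G T := fun s hs => by
      rw [Category.assoc, hinv', ← Category.assoc, whiskerLeft_snd, Category.assoc, hs, Category.comp_id]
    have e₁ : o₁ ≫ φ' = snd G T := e s₁ (Limits.pullback.lift_snd _ _ _)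
    have e₂ : o₂ ≫ φ' = snd G T := e s₂ (Limits.pullback.lift_snd _ _ _)
    exact ((congrArg (Limits.pullback.snd o₁ o₂ ≫ ·) e₂).symm.trans (Category.assoc _ _ _).symm).trans
      (this.symm.trans ((Category.assoc _ _ _).trans (congrArg (Limits.pullback.fst o₁ o₂ ≫ ·) e₁)))
  let g₁ := Limits.pullback.fst o₁ o₂ ≫ fst G T
  let g₂ := Limits.pullback.snd o₁ o₂ ≫ fst G T
  have horb : lift (g₁⁻¹ * g₂) (c ≫ x₂) ≫ a.act = c ≫ x₁ := by
    have := congr($(Limits.pullback.condition (f := o₁) (g := o₂)) ≫ pr)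
    have e : ∀ (s : T ⟶ X') (f : T ⟶ X), s ≫ pr = f → ∀ {P : Over S} (q : P ⟶ G ⊗ T),
        (q ≫ (G ◁ s) ≫ a'.act) ≫ pr = lift (q ≫ fst G T) ((q ≫ snd G T) ≫ f) ≫ a.act := fun s f hs _ q => by
      rw [Category.assoc, Category.assoc, heq, ← whiskerLeft_comp_assoc, hs, ← Category.assoc]
      congr 1
      refine CartesianMonoidalCategory.hom_ext _ _ ?_ ?_ <;> simp
    rw [e _ x₁ (Limits.pullback.lift_fst _ _ _), e _ x₂ (Limits.pullback.lift_fst _ _ _), hc2] at this
    rw [GrpAct.mul_smul, ← this, ← GrpAct.mul_smul, inv_mul_cancel, GrpAct.one_smul']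
  refine ⟨(lift (g₁⁻¹ * g₂) (c ≫ x₂)).left w, ?_⟩
  have hpsi : (lift (g₁⁻¹ * g₂) (c ≫ x₂)).left ≫ GIT.PsiY a φ hinv = c.left ≫ pz := by
    apply Limits.pullback.hom_ext
    · rw [Category.assoc, GIT.PsiY, pullback.lift_fst, ← Over.comp_left, horb, Over.comp_left, Category.assoc]
      rfl
    · rw [Category.assoc, GIT.PsiY, pullback.lift_snd, ← Over.comp_left, lift_snd, Over.comp_left, Category.assoc]
      rfl
  change ((lift (g₁⁻¹ * g₂) (c ≫ x₂)).left ≫ GIT.PsiY a φ hinv) w = z
  rw [hpsi, Scheme.Hom.comp_apply, Scheme.Hom.comp_apply]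
  exact Scheme.fromSpecResidueField_apply z _

theorem isUnivGeomQuot_of_goodAct (h : GoodAct a φ) (hc : GIT.IsClosedAction a) : GIT.IsUnivGeomQuot a φ :=
  (GITCat.isUnivGeomQuot_iff_of_isUnivCatQuot (isUnivCatQuot_of_goodAct h)).2
    ⟨h.universally_isQuotientMap, surjective_PsiY h _ hc⟩

end General

section Affine

variable {k : Type u} [Field k] {H : Type u} [CommRing H] [HopfAlgebra k H]
variable {B : Type u} [CommRing B] [Algebra k B] [HopfRep.Comod k H B] [GLin.IsCoactAlg k H B]

/-- The Reynolds datum of a coaction. -/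
noncomputable def datumOfCoact (r : Comod.Integral k H) : Datum (GLin.invariants k H B) B (B ⊗[k] H) where
  σ := { (GLin.coactAlgHom k H B) with commutes' := fun c => c.2 }
  π := { (Algebra.TensorProduct.includeLeft : B →ₐ[k] B ⊗[k] H) with commutes' := fun _ => rfl }
  L :=
    { toFun := Comod.cR r.toFun
      map_add' := map_add _
      map_smul' := fun c t => by
        induction t using TensorProduct.induction_on with
        | zero => simp
        | add x y hx hy => simp only [smul_add, map_add, hx, hy]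
        | tmul x y =>
          rw [RingHom.id_apply, TensorProduct.smul_tmul', Comod.cR_tmul, Comod.cR_tmul]
          exact smul_comm _ c x }
  L_mul b t := by
    show Comod.cR r.toFun ((b ⊗ₜ[k] (1 : H)) * t) = b * Comod.cR r.toFun t
    induction t using TensorProduct.induction_on with
    | zero => simp
    | add x y hx hy => simp only [mul_add, map_add, hx, hy]
    | tmul x y => simp
  L_one := by
    show Comod.cR r.toFun ((1 : B) ⊗ₜ[k] (1 : H)) = 1
    simp [r.one]
  E :=
    { toFun := fun b => ⟨Comod.reynolds B r b, Comod.reynolds_mem r b⟩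
      map_add' := fun x y => Subtype.ext (map_add _ x y)
      map_smul' := fun c x => Subtype.ext (by
        show Comod.reynolds B r ((c : B) * x) = (c : B) * Comod.reynolds B r x
        exact Comod.reynolds_mul r _ _ GLin.IsCoactAlg.coact_mul c.2) }
  E_one := Subtype.ext (by
    show Comod.reynolds B r (1 : B) = 1
    exact Comod.reynolds_of_mem r (GLin.invariants k H B).one_mem)
  E_spec _ := rfl

end Affine

/-- The trivial comodule. -/
@[reducible] noncomputable def trivComod (k H : Type u) [Field k] [CommRing H] [HopfAlgebra k H] : HopfRep.Comod k H k where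
  coact := (TensorProduct.mk k k H).flip 1
  coassoc := by ext; simp [Bialgebra.comul_one, Algebra.TensorProduct.one_def]
  counit_comp := by ext; simp

/-- The affine quotient by a linearly reductive group exists. -/
theorem exists_affine_quotient {k : Type u} [Field k] {G X : Over (Spec (CommRingCat.of k))} [GrpObj G]
    [IsAffine X.left] (a : AlgGrp.Action G X) {H : Type u} [CommRing H] [HopfAlgebra k H]
    (e : CoactBr.sp k H ≅ G) [IsMonHom e.hom] (hH : HopfRep.IsLinearlyReductive k H) :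
    ∃ (Y : Over (Spec (CommRingCat.of k))) (φ : X ⟶ Y), IsAffine Y.left ∧ GoodAct a φ ∧
      (IsNoetherian X.left → IsNoetherian Y.left) ∧
      (Algebra.FiniteType k H → LocallyOfFiniteType X.hom → LocallyOfFiniteType Y.hom) := by
  obtain ⟨B, _, _, _, _, eX, w, hw₁, hw₂⟩ := exists_coact a e
  obtain ⟨r⟩ := Comod.nonempty_integral hH
  let C := GLin.invariants k H B
  let D : Datum C B (B ⊗[k] H) := datumOfCoact r
  let Y : Over (Spec (CommRingCat.of k)) := CoactBr.sp k C
  let φ : X ⟶ Y := eX.inv ≫ CoactBr.pt C.val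
  haveI : IsIso eX.inv.left := inferInstanceAs (IsIso ((Over.forget _).map eX.inv))
  haveI : IsIso eX.hom.left := inferInstanceAs (IsIso ((Over.forget _).map eX.hom))
  refine ⟨Y, φ, inferInstanceAs (IsAffine (Spec (CommRingCat.of C))), ?_, ?_, ?_⟩
  · let wl : (G ⊗ X).left ≅ Spec (CommRingCat.of (B ⊗[k] H)) := (Over.forget _).mapIso w
    have e₁ : (snd G X).left ≫ eX.inv.left = wl.hom ≫ Spec.map (CommRingCat.ofHom D.π.toRingHom) := by
      rw [← Over.comp_left, hw₁]; rfl
    have e₂ : a.act.left ≫ eX.inv.left = wl.hom ≫ Spec.map (CommRingCat.ofHom D.σ.toRingHom) := by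
      rw [← Over.comp_left, hw₂]; rfl
    have h0 : Good (Spec.map (CommRingCat.ofHom (algebraMap C B))) (a.act.left ≫ eX.inv.left)
        ((snd G X).left ≫ eX.inv.left) := good_of_datum D wl e₂ e₁
    refine h0.of_isPullback (pr := eX.inv.left) (q := 𝟙 _) (g := 𝟙 _) ?_ ?_ (Category.id_comp _).symm
      (Category.id_comp _).symm ((Category.assoc _ _ _).symm.trans (h0.inv.trans (Category.assoc _ _ _)))
    · exact IsPullback.of_horiz_isIso ⟨(Category.comp_id φ.left).symm⟩
    · exact IsPullback.of_horiz_isIso ⟨(Category.id_comp _).trans ((Category.assoc _ _ _).trans (Category.comp_id _).symm)⟩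
  · intro _
    have : IsNoetherian (Spec (CommRingCat.of B)) := by
      haveI : IsLocallyNoetherian (Spec (CommRingCat.of B)) := isLocallyNoetherian_of_isOpenImmersion eX.hom.left
      exact {}
    haveI : IsNoetherianRing B := (isNoetherian_Spec (R := CommRingCat.of B)).1 this
    haveI : IsNoetherianRing C := D.isNoetherianRing
    exact (isNoetherian_Spec (R := CommRingCat.of C)).2 ‹_›
  · intro _ _
    haveI : Algebra.FiniteType k B := by
      have : LocallyOfFiniteType (CoactBr.sp k B).hom := by rw [← Over.w eX.hom]; infer_instance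
      exact RingHom.finiteType_algebraMap.1 ((HasRingHomProperty.Spec_iff (P := @LocallyOfFiniteType)).1 this)
    letI : HopfRep.Comod k H k := trivComod k H
    haveI : GLin.IsCoactAlg k H k := ⟨rfl, fun f g => by
      show (f * g) ⊗ₜ[k] (1 : H) = f ⊗ₜ[k] (1 : H) * g ⊗ₜ[k] (1 : H)
      simp⟩
    have hAC : Hoch.IsComodHom H (IsScalarTower.toAlgHom k k B).toLinearMap := by
      refine LinearMap.ext fun c => ?_
      show HopfRep.Comod.coact (algebraMap k B c) = (algebraMap k B c) ⊗ₜ[k] (1 : H)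
      exact C.algebraMap_mem c
    obtain ⟨s, hs⟩ := InvFG.exists_invariants_adjoin hH hAC
    haveI : Algebra.FiniteType k C := by
      refine C.fg_iff_finiteType.1 ⟨s, ?_⟩
      rw [show C = _ from hs, Algebra.adjoin_union, show Algebra.adjoin k (⇑(algebraMap k B) ''
        ((GLin.invariants k H k : Subalgebra k k) : Set k)) = ⊥ from eq_bot_iff.2 (Algebra.adjoin_le (by
          rintro _ ⟨c, -, rfl⟩; exact Subalgebra.algebraMap_mem _ c)), bot_sup_eq]
    exact (HasRingHomProperty.Spec_iff (P := @LocallyOfFiniteType)).2 (RingHom.finiteType_algebraMap.2 ‹_›)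

end Groth.Agent.AffQuot

namespace Groth.Agent.AffQuot

open GeomQuot in
/-- Global functions on a good quotient are the invariant global functions. -/
theorem appTop_of_good {X Y T : Scheme.{u}} {φ : X ⟶ Y} {σ π : T ⟶ X} (h : Good φ σ π) :
    Function.Injective φ.appTop ∧ Set.range φ.appTop = {f : Γ(X, ⊤) | σ.appTop f = π.appTop f} := by
  refine ⟨fun s₁ s₂ e => ?_, Set.Subset.antisymm ?_ fun f hf => ?_⟩
  · obtain ⟨χ₁, rfl⟩ := ev_surjective s₁
    obtain ⟨χ₂, rfl⟩ := ev_surjective s₂
    rw [← ev_comp, ← ev_comp] at e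
    rw [h.epi_hom (ev_injective e)]
  · rintro _ ⟨s, rfl⟩
    obtain ⟨χ, rfl⟩ := ev_surjective s
    show σ.appTop (φ.appTop _) = π.appTop (φ.appTop _)
    simp only [← ev_comp]
    rw [← Category.assoc, h.inv, Category.assoc]
  · obtain ⟨ψ, rfl⟩ := ev_surjective f
    obtain ⟨χ, hχ, -⟩ := h.existsUnique_desc ψ (ev_injective (by rw [ev_comp, ev_comp]; exact hf))
    exact ⟨ev χ, by rw [← ev_comp, hχ]⟩

end Groth.Agent.AffQuot

namespace Groth.Agent.AffQuot

/-- Disjoint closed subsets of an affine scheme are separated by a function. -/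
theorem exists_separating_of_isAffine {Y : Scheme.{u}} [IsAffine Y] {W₁ W₂ : Set Y} (h₁ : IsClosed W₁)
    (h₂ : IsClosed W₂) (hd : Disjoint W₁ W₂) :
    ∃ c : Γ(Y, ⊤), W₁ ⊆ Y.zeroLocus (U := ⊤) {c} ∧ W₂ ⊆ Y.zeroLocus (U := ⊤) {1 - c} := by
  obtain ⟨I₁, rfl⟩ := (Scheme.eq_zeroLocus_of_isClosed_of_isAffine Y W₁).1 h₁
  obtain ⟨I₂, rfl⟩ := (Scheme.eq_zeroLocus_of_isClosed_of_isAffine Y W₂).1 h₂
  simp only [← Scheme.toSpecΓ_preimage_zeroLocus] at hd ⊢
  have htop : I₁ ⊔ I₂ = ⊤ := by
    rw [← PrimeSpectrum.zeroLocus_empty_iff_eq_top, PrimeSpectrum.zeroLocus_sup, Set.eq_empty_iff_forall_notMem]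
    intro p hp
    obtain ⟨x, rfl⟩ := Y.isoSpec.hom.surjective p
    exact Set.disjoint_left.1 hd hp.1 hp.2
  obtain ⟨a, ha, b, hb, hab⟩ := Submodule.mem_sup.1 ((Ideal.eq_top_iff_one _).1 htop)
  refine ⟨a, Set.preimage_mono (PrimeSpectrum.zeroLocus_anti_mono (Set.singleton_subset_iff.2 ha)),
    Set.preimage_mono (PrimeSpectrum.zeroLocus_anti_mono (Set.singleton_subset_iff.2 ?_))⟩
  rw [sub_eq_iff_eq_add'.2 hab.symm]
  exact hb

end Groth.Agent.AffQuot
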