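import Groth.Agent.AffQuot.Main
import Mathlib.AlgebraicGeometry.Morphisms.QuasiFinite
import Mathlib.Topology.Sober

/-!
# Stable sets, orbits and stabilisers of actions
-/

set_option autoImplicit false
set_option backward.isDefEq.respectTransparency false

universe u

open CategoryTheory MonoidalCategory CartesianMonoidalCategory MonObj GrpObj AlgebraicGeometry

namespace Groth.Agent.AffQuot

open Limits

variable {S : Scheme.{u}} {G X : Over S} [GrpObj G] {a : AlgGrp.Action G X}

lemma mul_act_left (a : AlgGrp.Action G X) :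
    lift ((fst G X)⁻¹) a.act ≫ a.act = snd G X := by
  have e : a.act = lift (fst G X) (snd G X) ≫ a.act := by rw [lift_fst_snd, Category.id_comp]
  refine (congrArg (fun y => lift ((fst G X)⁻¹) y ≫ a.act) e).trans ?_
  rw [← GrpAct.mul_smul, inv_mul_cancel, GrpAct.one_smul']

/-- The preimages of a stable set under the action and the projection agree. -/
theorem stable_iff_eq {W : Set X.left} :
    Good.Stable a.act.left (snd G X).left W ↔ (snd G X).left ⁻¹' W = a.act.left ⁻¹' W := by
  refine ⟨fun h => Set.Subset.antisymm h fun t ht => ?_, fun h => h.subset⟩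
  let θ := (lift ((fst G X)⁻¹) a.act).left
  have h₁ : (snd G X).left (θ t) = a.act.left t := by
    rw [← Scheme.Hom.comp_apply, ← Over.comp_left, lift_snd]
  have h₂ : a.act.left (θ t) = (snd G X).left t := by
    rw [← Scheme.Hom.comp_apply, ← Over.comp_left, mul_act_left]
  have := h (show (snd G X).left (θ t) ∈ W by rw [h₁]; exact ht)
  exact (h₂ ▸ this : (snd G X).left t ∈ W)

theorem stable_compl {W : Set X.left} (h : Good.Stable a.act.left (snd G X).left W) :
    Good.Stable a.act.left (snd G X).left Wᶜ := by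
  rw [stable_iff_eq] at h ⊢
  rw [Set.preimage_compl, Set.preimage_compl, h]

variable {Y : Over S} {b : AlgGrp.Action G Y} {f : X ⟶ Y}

theorem stable_preimage (hf : a.act ≫ f = (G ◁ f) ≫ b.act) {W : Set Y.left}
    (h : Good.Stable b.act.left (snd G Y).left W) :
    Good.Stable a.act.left (snd G X).left (f.left ⁻¹' W) := fun t ht => by
  show f.left (a.act.left t) ∈ W
  rw [← Scheme.Hom.comp_apply, ← Over.comp_left, hf, Over.comp_left, Scheme.Hom.comp_apply]
  refine h ?_
  show (snd G Y).left ((G ◁ f).left t) ∈ W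
  rw [← Scheme.Hom.comp_apply, ← Over.comp_left, whiskerLeft_snd, Over.comp_left, Scheme.Hom.comp_apply]
  exact ht

theorem stable_image (hf : a.act ≫ f = (G ◁ f) ≫ b.act) {W : Set X.left}
    (h : Good.Stable a.act.left (snd G X).left W) :
    Good.Stable b.act.left (snd G Y).left (f.left '' W) := by
  rintro t ⟨w, hw, hwt⟩
  obtain ⟨t', ht₁, ht₂⟩ := Scheme.exists_preimage_of_isPullback
    ((Blanchard.isPullback_whiskerLeft G f).map (Over.forget S)) w t hwt
  refine ⟨a.act.left t', h (show (snd G X).left t' ∈ W from ht₁ ▸ hw), ?_⟩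
  rw [← Scheme.Hom.comp_apply, ← Over.comp_left, hf, Over.comp_left, Scheme.Hom.comp_apply]
  exact congrArg b.act.left ht₂

/-- A stable set meeting the orbit of a point with values in a field contains the whole orbit. -/
theorem range_subset_of_stable {T : Over S} [Subsingleton T.left] (x : T ⟶ X) {W : Set X.left}
    (hs : Good.Stable a.act.left (snd G X).left W) {u : (G ⊗ T).left}
    (hu : ((G ◁ x) ≫ a.act).left u ∈ W) : Set.range ((G ◁ x) ≫ a.act).left ⊆ W := by
  rintro _ ⟨u', rfl⟩
  let o := (G ◁ x) ≫ a.act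
  let p₁ := Limits.pullback.fst (snd G T) (snd G T)
  let p₂ := Limits.pullback.snd (snd G T) (snd G T)
  obtain ⟨v, hv₁, hv₂⟩ := Scheme.exists_preimage_of_isPullback
    ((IsPullback.of_hasPullback (snd G T) (snd G T)).map (Over.forget S)) u u' (Subsingleton.elim (α := T.left) _ _)
  have hT : p₁ ≫ snd G T = p₂ ≫ snd G T := Limits.pullback.condition
  have ho : ∀ {P : Over S} (q : P ⟶ G ⊗ T), q ≫ o = lift (q ≫ fst G T) ((q ≫ snd G T) ≫ x) ≫ a.act := fun q => by
    rw [← Category.assoc]
    congr 1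
    refine CartesianMonoidalCategory.hom_ext _ _ ?_ ?_ <;> simp
  let s := lift ((p₂ ≫ fst G T) * (p₁ ≫ fst G T)⁻¹) (p₁ ≫ o)
  have hs₁ : s ≫ snd G X = p₁ ≫ o := lift_snd _ _
  have hs₂ : s ≫ a.act = p₂ ≫ o := by
    show lift _ _ ≫ a.act = _
    rw [ho p₁, ← GrpAct.mul_smul, inv_mul_cancel_right, hT, ← ho p₂]
  have h₁ : (snd G X).left (s.left v) = o.left u := by
    rw [← Scheme.Hom.comp_apply, ← Over.comp_left, hs₁, Over.comp_left, Scheme.Hom.comp_apply]
    exact congrArg o.left hv₁
  have h₂ : a.act.left (s.left v) = o.left u' := by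
    rw [← Scheme.Hom.comp_apply, ← Over.comp_left, hs₂, Over.comp_left, Scheme.Hom.comp_apply]
    exact congrArg o.left hv₂
  exact h₂ ▸ hs (show (snd G X).left (s.left v) ∈ W by rw [h₁]; exact hu)

/-- A nonempty closed set of a sober space has a point without proper generalisation inside it. -/
theorem exists_maximal_point {α : Type*} [TopologicalSpace α] [QuasiSober α] [T0Space α] {O : Set α}
    (hO : IsClosed O) (hne : O.Nonempty) : ∃ p ∈ O, ∀ p' ∈ O, p' ⤳ p → p' = p := by
  obtain ⟨x, hx⟩ := hne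
  haveI : QuasiSober O := hO.isClosedEmbedding_subtypeVal.quasiSober
  have hC : IsIrreducible (irreducibleComponent (⟨x, hx⟩ : O)) := isIrreducible_irreducibleComponent
  have hg : IsGenericPoint hC.genericPoint (irreducibleComponent (⟨x, hx⟩ : O)) :=
    hC.isGenericPoint_genericPoint isClosed_irreducibleComponent
  refine ⟨hC.genericPoint.1, hC.genericPoint.2, fun p' hp' hs => ?_⟩
  have hs' : (⟨p', hp'⟩ : O) ⤳ hC.genericPoint := Topology.IsInducing.subtypeVal.specializes_iff.1 hs
  have hle : irreducibleComponent (⟨x, hx⟩ : O) ⊆ closure {(⟨p', hp'⟩ : O)} := by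
    rw [← hg.def]
    exact closure_minimal (Set.singleton_subset_iff.2 hs'.mem_closure) isClosed_closure
  have heq := eq_irreducibleComponent isIrreducible_singleton.closure.isPreirreducible hle
  exact congrArg Subtype.val ((show IsGenericPoint (⟨p', hp'⟩ : O) _ from heq).eq hg)

/-- Finite stabilisers make `(action, projection)` locally quasi-finite. -/
theorem locallyQuasiFinite_psi {k : Type u} [Field k] {G X : Over (Spec (CommRingCat.of k))} [GrpObj G]
    (a : AlgGrp.Action G X) [LocallyOfFiniteType (GIT.psi a (𝟙 X)).left] [QuasiCompact (GIT.psi a (𝟙 X)).left]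
    (h : LocallyQuasiFinite (Limits.pullback.snd (GIT.psi a (𝟙 X)).left (lift (𝟙 X) (𝟙 X)).left)) :
    LocallyQuasiFinite (GIT.psi a (𝟙 X)).left := by
  let Ψ := GIT.psi a (𝟙 X)
  let Δ := lift (𝟙 X) (𝟙 X)
  have hψ : ∀ {T : Over (Spec (CommRingCat.of k))} (q : T ⟶ G ⊗ X),
      q ≫ Ψ = lift (q ≫ a.act) (q ≫ snd G X) := fun q => by
    simp only [Ψ, GIT.psi, MonoidalCategory.whiskerLeft_id, Category.id_comp, comp_lift]
  let Q := Limits.pullback Ψ Ψ
  let St := Limits.pullback Ψ Δ
  let st : St ⟶ X := Limits.pullback.snd Ψ Δ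
  let sg : St ⟶ G := Limits.pullback.fst Ψ Δ ≫ fst G X
  let R := Limits.pullback (snd G X) st
  let w₁ : Q ⟶ G ⊗ X := Limits.pullback.fst Ψ Ψ
  let w₂ : Q ⟶ G ⊗ X := Limits.pullback.snd Ψ Ψ
  have hw : w₁ ≫ Ψ = w₂ ≫ Ψ := Limits.pullback.condition
  rw [hψ, hψ] at hw
  have hwa : w₁ ≫ a.act = w₂ ≫ a.act := by
    simpa using congrArg (· ≫ fst X X) hw
  have hws : w₁ ≫ snd G X = w₂ ≫ snd G X := by
    simpa using congrArg (· ≫ snd X X) hw
  have eta : ∀ {T : Over (Spec (CommRingCat.of k))} (q : T ⟶ G ⊗ X), q = lift (q ≫ fst G X) (q ≫ snd G X) :=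
    fun q => by rw [← comp_lift, lift_fst_snd, Category.comp_id]
  have hact : ∀ {T : Over (Spec (CommRingCat.of k))} (q : T ⟶ G ⊗ X),
      q ≫ a.act = lift (q ≫ fst G X) (q ≫ snd G X) ≫ a.act := fun q => by rw [← eta]
  let c : Q ⟶ G := (w₂ ≫ fst G X)⁻¹ * (w₁ ≫ fst G X)
  have hc : lift c (w₁ ≫ snd G X) ≫ a.act = w₁ ≫ snd G X := by
    rw [GrpAct.mul_smul, ← hact w₁, hwa, hact w₂, ← GrpAct.mul_smul, inv_mul_cancel, GrpAct.one_smul', hws]
  let toSt : Q ⟶ St := Limits.pullback.lift (lift c (w₁ ≫ snd G X)) (w₁ ≫ snd G X) (by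
    rw [hψ, comp_lift, Category.comp_id, lift_snd, hc])
  let θ : Q ⟶ R := Limits.pullback.lift w₂ toSt (by
    rw [Limits.pullback.lift_snd, hws])
  let r₂ : R ⟶ G ⊗ X := Limits.pullback.fst (snd G X) st
  let rs : R ⟶ St := Limits.pullback.snd (snd G X) st
  have hr : r₂ ≫ snd G X = rs ≫ st := Limits.pullback.condition
  have hsc : Limits.pullback.fst Ψ Δ ≫ Ψ = st ≫ Δ := Limits.pullback.condition
  rw [hψ, comp_lift, Category.comp_id] at hsc
  have hstab : Limits.pullback.fst Ψ Δ ≫ a.act = st := by simpa using congrArg (· ≫ fst X X) hsc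
  have hsts : Limits.pullback.fst Ψ Δ ≫ snd G X = st := by simpa using congrArg (· ≫ snd X X) hsc
  have hstab' : lift sg st ≫ a.act = st := by
    conv_lhs => rw [← hsts]
    rw [← hact, hstab]
  let inv : R ⟶ Q := Limits.pullback.lift (lift ((r₂ ≫ fst G X) * (rs ≫ sg)) (r₂ ≫ snd G X)) r₂ (by
    rw [hψ, hψ, lift_snd, GrpAct.mul_smul, hr, ← GrpAct.comp_smul a rs sg st, hstab', ← hr, ← hact])
  have h₁ : θ ≫ inv = 𝟙 Q := by
    apply Limits.pullback.hom_ext
    · rw [Category.assoc, Limits.pullback.lift_fst, Category.id_comp, comp_lift, MonObj.comp_mul]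
      simp only [← Category.assoc, sg, r₂, rs, θ, Limits.pullback.lift_fst, Limits.pullback.lift_snd, toSt, lift_fst]
      exact (congrArg₂ lift (mul_inv_cancel_left _ _) hws.symm).trans (eta w₁).symm
    · rw [Category.assoc, Limits.pullback.lift_snd, Limits.pullback.lift_fst, Category.id_comp]
  have h₂ : inv ≫ θ = 𝟙 R := by
    apply Limits.pullback.hom_ext
    · rw [Category.assoc, Limits.pullback.lift_fst, Limits.pullback.lift_snd, Category.id_comp]
    · apply Limits.pullback.hom_ext
      · simp only [Category.assoc, Category.id_comp, θ, Limits.pullback.lift_snd_assoc, toSt, Limits.pullback.lift_fst,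
          comp_lift, inv, w₁, w₂, c, MonObj.comp_mul, GrpObj.comp_inv, Limits.pullback.lift_fst_assoc,
          Limits.pullback.lift_snd_assoc, lift_fst, lift_snd]
        rw [inv_mul_cancel_left, hr]
        exact ((congrArg (lift (rs ≫ sg) ·) (congrArg (rs ≫ ·) hsts.symm)).trans
          (by rw [← comp_lift]; exact congrArg (rs ≫ ·) (eta _).symm))
      · simp only [Category.assoc, Category.id_comp, θ, Limits.pullback.lift_snd_assoc, toSt, Limits.pullback.lift_snd,
          inv, w₁, Limits.pullback.lift_fst_assoc, lift_snd]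
        exact hr
  haveI : IsIso θ := ⟨inv, h₁, h₂⟩
  haveI : IsIso θ.left := inferInstanceAs (IsIso ((Over.forget _).map θ))
  haveI hst : LocallyQuasiFinite st.left := by
    have hp := ((IsPullback.of_hasPullback Ψ Δ).map (Over.forget _))
    have e : st.left = hp.isoPullback.hom ≫ Limits.pullback.snd Ψ.left Δ.left := hp.isoPullback_hom_snd.symm
    rw [e]
    exact (MorphismProperty.cancel_left_of_respectsIso @LocallyQuasiFinite _ _).2 h
  have hw₂ : LocallyQuasiFinite w₂.left := by
    have e : w₂ = θ ≫ r₂ := (Limits.pullback.lift_fst _ _ _).symm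
    rw [e, Over.comp_left]
    haveI : LocallyQuasiFinite r₂.left := MorphismProperty.of_isPullback
      ((IsPullback.of_hasPullback (snd G X) st).map (Over.forget _)).flip hst
    exact (MorphismProperty.cancel_left_of_respectsIso @LocallyQuasiFinite _ _).2 inferInstance
  have hsq := (IsPullback.of_hasPullback Ψ Ψ).map (Over.forget _)
  haveI : QuasiCompact w₂.left := MorphismProperty.of_isPullback hsq (inferInstanceAs (QuasiCompact Ψ.left))
  refine LocallyQuasiFinite.of_finite_preimage_singleton _ fun x => ?_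
  by_cases hx : ∃ u, Ψ.left u = x
  · obtain ⟨u, hu⟩ := hx
    refine ((w₂.left.finite_preimage_singleton u).image w₁.left).subset fun v hv => ?_
    obtain ⟨q, hq₁, hq₂⟩ := Scheme.exists_preimage_of_isPullback hsq v u (Eq.trans hv hu.symm)
    exact ⟨q, hq₂, hq₁⟩
  · exact (show ((GIT.psi a (𝟙 X)).left ⁻¹' {x}) = ∅ from
      Set.eq_empty_iff_forall_notMem.2 fun v hv => hx ⟨v, hv⟩) ▸ Set.finite_empty

end Groth.Agent.AffQuot
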